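import Groth.Agent.WeakNorm.Awn
import Mathlib.AlgebraicGeometry.Morphisms.Separated
import Mathlib.AlgebraicGeometry.Morphisms.Affine
import Mathlib.AlgebraicGeometry.Pullbacks
import Mathlib.RingTheory.Localization.Away.Basic
import Mathlib.RingTheory.IntegralClosure.IsIntegralClosure.Basic
import Mathlib.Tactic.Ring

/-!
Functoriality of the absolute weak normalization and compatibility with localization.
-/

set_option autoImplicit false
set_option linter.style.haveILetI false
universe u

namespace Groth.Agent.WeakNorm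

open AlgebraicGeometry CategoryTheory CategoryTheory.Limits
open scoped TensorProduct

section criterion

theorem isUnivHomeo_iff {X Y : Scheme.{u}} (f : X ⟶ Y) :
    FlatMor.IsUnivHomeo f ↔ IsIntegralHom f ∧ UniversallyInjective f ∧ Surjective f := by
  constructor
  · intro h
    have h0 := h (𝟙 _) (𝟙 _) f IsPullback.of_id_fst.flip
    have hc : UniversallyClosed f := ⟨fun X' Y' i₁ i₂ f' hf => (h i₁ i₂ f' hf).isClosedMap⟩
    have ha : IsAffineHom f :=
      isAffineHom_of_isInducing f h0.isEmbedding.isInducing h0.isClosedEmbedding.isClosed_range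
    exact ⟨IsIntegralHom.iff_universallyClosed_and_isAffineHom.mpr ⟨hc, ha⟩,
      ⟨fun X' Y' i₁ i₂ f' hf => (h i₁ i₂ f' hf).injective⟩, ⟨h0.surjective⟩⟩
  · rintro ⟨h1, h2, h3⟩
    exact EtaPtLib.isUnivHomeo_of_isIntegralHom f

theorem isUnivHomeo_comp {X Y Z : Scheme.{u}} {f : X ⟶ Y} {g : Y ⟶ Z}
    (hf : FlatMor.IsUnivHomeo f) (hg : FlatMor.IsUnivHomeo g) : FlatMor.IsUnivHomeo (f ≫ g) := by
  rw [isUnivHomeo_iff] at hf hg ⊢
  obtain ⟨a, b, c⟩ := hf
  obtain ⟨a', b', c'⟩ := hg
  exact ⟨MorphismProperty.comp_mem _ _ _ a a', MorphismProperty.comp_mem _ _ _ b b',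
    MorphismProperty.comp_mem _ _ _ c c'⟩

theorem isUnivHomeo_of_isIso {X Y : Scheme.{u}} (f : X ⟶ Y) [IsIso f] : FlatMor.IsUnivHomeo f :=
  (isUnivHomeo_iff f).mpr ⟨inferInstance, inferInstance, inferInstance⟩

theorem isUnivHomeo_of_isPullback {P X Y Z : Scheme.{u}} {fst : P ⟶ X} {snd : P ⟶ Y} {f : X ⟶ Z}
    {g : Y ⟶ Z} (h : IsPullback fst snd f g) (hg : FlatMor.IsUnivHomeo g) :
    FlatMor.IsUnivHomeo fst := by
  rw [isUnivHomeo_iff] at hg ⊢
  exact ⟨MorphismProperty.of_isPullback h.flip hg.1, MorphismProperty.of_isPullback h.flip hg.2.1,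
    MorphismProperty.of_isPullback h.flip hg.2.2⟩

/-- Two morphisms from a reduced scheme which agree after a universally injective separated
morphism are equal. -/
theorem hom_ext_of_universallyInjective {T Y X : Scheme.{u}} [IsReduced T] (π : Y ⟶ X)
    [UniversallyInjective π] [IsSeparated π] {f g : T ⟶ Y} (h : f ≫ π = g ≫ π) : f = g := by
  haveI : Surjective (pullback.diagonal π) :=
    (UniversallyInjective.iff_diagonal π).mp inferInstance
  haveI : Surjective (pullback.fst (pullback.lift f g h) (pullback.diagonal π)) :=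
    MorphismProperty.pullback_fst _ _ inferInstance
  refine ext_of_isDominant_of_isSeparated π h (pullback.fst (pullback.lift f g h) (pullback.diagonal π)) ?_
  have hc := pullback.condition (f := pullback.lift f g h) (g := pullback.diagonal π)
  have h1 := hc =≫ pullback.fst π π
  have h2 := hc =≫ pullback.snd π π
  simp only [Category.assoc, pullback.lift_fst, pullback.lift_snd, pullback.diagonal_fst,
    pullback.diagonal_snd, Category.comp_id] at h1 h2
  rw [h1, h2]

variable {A B : Type u} [CommRing A] [CommRing B]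

/-- A ring map whose spectrum is a universal homeomorphism. -/
abbrev UH (ψ : A →+* B) : Prop := FlatMor.IsUnivHomeo (Spec.map (CommRingCat.ofHom ψ))

theorem UH.comp {C : Type u} [CommRing C] {ψ : A →+* B} {ψ' : B →+* C} (h : UH ψ) (h' : UH ψ') :
    UH (ψ'.comp ψ) := by
  show FlatMor.IsUnivHomeo (Spec.map (CommRingCat.ofHom (ψ'.comp ψ)))
  rw [CommRingCat.ofHom_comp, Spec.map_comp]
  exact isUnivHomeo_comp h' h

theorem uh_iff [Algebra A B] : UH (algebraMap A B) ↔ Algebra.IsIntegral A B ∧
    (∀ s : B, IsNilpotent (s ⊗ₜ[A] (1 : B) - (1 : B) ⊗ₜ[A] s)) ∧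
    Function.Surjective (PrimeSpectrum.comap (algebraMap A B)) := by
  show FlatMor.IsUnivHomeo _ ↔ _
  rw [isUnivHomeo_iff, IsIntegralHom.SpecMap_iff, universallyInjective_iff_isNilpotent,
    surjective_iff]
  exact and_congr algebraMap_isIntegral_iff Iff.rfl

/-- Ring maps out of a universal homeomorphism into a reduced ring are determined by the base. -/
theorem UH.hom_ext {ψ : A →+* B} (hψ : UH ψ) {R : Type u} [CommRing R] [_root_.IsReduced R]
    {f g : B →+* R} (h : f.comp ψ = g.comp ψ) : f = g := by
  letI := ψ.toAlgebra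
  letI : Algebra A R := (f.comp ψ).toAlgebra
  let f' : B →ₐ[A] R := { f with commutes' := fun _ => rfl }
  let g' : B →ₐ[A] R := { g with commutes' := fun a => (RingHom.congr_fun h a).symm }
  refine RingHom.ext fun c => ?_
  have h0 := (((uh_iff (A := A) (B := B)).mp hψ).2.1 c).map
    (Algebra.TensorProduct.lift f' g' (fun _ _ => Commute.all _ _))
  rw [map_sub, Algebra.TensorProduct.lift_tmul, Algebra.TensorProduct.lift_tmul, map_one, map_one,
    mul_one, one_mul] at h0
  exact sub_eq_zero.mp h0.eq_zero

theorem UH.baseChange [Algebra A B] (h : UH (algebraMap A B)) (A' : Type u) [CommRing A']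
    [Algebra A A'] : UH (algebraMap A' (A' ⊗[A] B)) :=
  isUnivHomeo_of_isPullback
    (isPullback_SpecMap_of_isPushout _ _ _ _ (CommRingCat.isPushout_tensorProduct A A' B)) h

end criterion

section functor

variable {A A' A'' : Type u} [CommRing A] [CommRing A'] [CommRing A'']

instance (A : Type u) [CommRing A] : _root_.IsReduced (awn A) :=
  isReduced_of_injective (awn A).val Subtype.val_injective

theorem uh_awn (A : Type u) [CommRing A] : UH (algebraMap A (awn A)) := (isRingAWN_awn A).1

theorem exists_awnMap (g : A →+* A') :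
    ∃ h : awn A →+* awn A', h.comp (algebraMap A (awn A)) = (algebraMap A' (awn A')).comp g := by
  letI := g.toAlgebra
  obtain ⟨χ, hχ, -⟩ := (isRingAWN_awn A').2 (A' ⊗[A] awn A) (algebraMap A' _) ((uh_awn A).baseChange A')
  refine ⟨χ.comp Algebra.TensorProduct.includeRight.toRingHom, RingHom.ext fun a => ?_⟩
  simp only [RingHom.coe_comp, Function.comp_apply]
  rw [← RingHom.congr_fun hχ (g a)]
  simp only [RingHom.coe_comp, Function.comp_apply]
  congr 1
  exact Algebra.TensorProduct.includeRight.commutes a

/-- The map of absolute weak normalizations induced by a ring map. -/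
noncomputable def awnMap (g : A →+* A') : awn A →+* awn A' := (exists_awnMap g).choose

theorem awnMap_comp_algebraMap (g : A →+* A') :
    (awnMap g).comp (algebraMap A (awn A)) = (algebraMap A' (awn A')).comp g :=
  (exists_awnMap g).choose_spec

theorem awnMap_id : awnMap (RingHom.id A) = RingHom.id (awn A) :=
  (uh_awn A).hom_ext (awnMap_comp_algebraMap _)

theorem awnMap_comp (g : A →+* A') (g' : A' →+* A'') :
    awnMap (g'.comp g) = (awnMap g').comp (awnMap g) :=
  (uh_awn A).hom_ext (by
    rw [awnMap_comp_algebraMap, RingHom.comp_assoc, awnMap_comp_algebraMap, ← RingHom.comp_assoc,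
      ← RingHom.comp_assoc, awnMap_comp_algebraMap])

end functor

section localization

variable {A A' : Type u} [CommRing A] [CommRing A'] [Algebra A A'] (f : A)
  [IsLocalization.Away f A'] {C : Type u} [CommRing C] [Algebra A C] [Algebra A' C]
  [IsScalarTower A A' C]

/-- Generators of the extension by zero. -/
def extSet (f : A) (C : Type u) [CommRing C] [Algebra A C] : Set (C × (A ⧸ Ideal.span {f})) :=
  {z | ∃ c : C, IsIntegral A c ∧ z = (algebraMap A C f * c, 0)}

/-- Extension by zero of an algebra over a localization. -/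
def extAlg (f : A) (C : Type u) [CommRing C] [Algebra A C] :
    Subalgebra A (C × (A ⧸ Ideal.span {f})) :=
  Algebra.adjoin A (extSet f C)

/-- The projection. -/
def extFst (f : A) (C : Type u) [CommRing C] [Algebra A C] : extAlg f C →ₐ[A] C :=
  (AlgHom.fst A C _).comp (extAlg f C).val

theorem extAlg_isLocalization [Algebra.IsIntegral A' C] :
    letI := (extFst f C).toRingHom.toAlgebra
    IsLocalization.Away (algebraMap A (extAlg f C) f) C := by
  letI := (extFst f C).toRingHom.toAlgebra
  have hf : IsUnit (algebraMap A C f) := by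
    rw [IsScalarTower.algebraMap_apply A A' C]
    exact (IsLocalization.Away.algebraMap_isUnit f).map _
  have hfz : (algebraMap A (extAlg f C) f).1.2 = 0 :=
    Ideal.Quotient.eq_zero_iff_mem.mpr (Ideal.subset_span rfl)
  have hfst : (extFst f C) (algebraMap A (extAlg f C) f) = algebraMap A C f :=
    (extFst f C).commutes f
  refine IsLocalization.Away.mk _ (by show IsUnit ((extFst f C) _); rwa [hfst]) (fun c => ?_)
    fun x y hxy => ?_
  · obtain ⟨⟨m, ⟨n, rfl⟩⟩, hm⟩ :=
      IsIntegral.exists_multiple_integral_of_isLocalization (Submonoid.powers f) c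
        (Algebra.IsIntegral.isIntegral (R := A') c)
    refine ⟨n + 1, ⟨(algebraMap A C f * algebraMap A C (f ^ n) * c, 0),
      Algebra.subset_adjoin ⟨algebraMap A C (f ^ n) * c, ?_, by rw [mul_assoc]⟩⟩, ?_⟩
    · simpa [Algebra.smul_def, Submonoid.smul_def] using hm
    · show c * (extFst f C) (algebraMap A _ f) ^ (n + 1) = _
      rw [hfst]
      show _ = algebraMap A C f * algebraMap A C (f ^ n) * c
      rw [map_pow]
      ring
  · refine ⟨1, Subtype.ext (Prod.ext ?_ ?_)⟩
    · show (algebraMap A (extAlg f C) f ^ 1).1.1 * x.1.1 = (algebraMap A (extAlg f C) f ^ 1).1.1 * y.1.1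
      rw [show x.1.1 = y.1.1 from hxy]
    · rw [pow_one]
      show (algebraMap A (extAlg f C) f).1.2 * x.1.2 = (algebraMap A (extAlg f C) f).1.2 * y.1.2
      rw [hfz, zero_mul, zero_mul]

theorem isNilpotent_sub_of_mul_self_eq {E : Type u} [CommRing E] [Algebra A E] [Algebra E C]
    [IsScalarTower A E C] [IsLocalization.Away (algebraMap A E f) C] (hC : UH (algebraMap A' C))
    {s t : E} (hst : s * s = algebraMap A E f * t) :
    IsNilpotent (s ⊗ₜ[A] (1 : E) - (1 : E) ⊗ₜ[A] s) := by
  rw [nilpotent_iff_mem_prime]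
  intro P hP
  let π : E ⊗[A] E →+* P.ResidueField := algebraMap (E ⊗[A] E) P.ResidueField
  let σ : E →+* P.ResidueField :=
    π.comp (Algebra.TensorProduct.includeLeftRingHom : E →+* E ⊗[A] E)
  let τ : E →+* P.ResidueField :=
    π.comp (Algebra.TensorProduct.includeRight : E →ₐ[A] E ⊗[A] E).toRingHom
  have hστ : ∀ a, σ (algebraMap A _ a) = τ (algebraMap A _ a) := fun a =>
    congrArg π ((Algebra.TensorProduct.includeRight : E →ₐ[A] E ⊗[A] E).commutes a).symm
  suffices σ s = τ s by
    refine (Ideal.algebraMap_residueField_eq_zero (I := P)).1 ?_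
    change π _ = 0
    rw [map_sub, sub_eq_zero]
    exact this
  by_cases hf0 : σ (algebraMap A _ f) = 0
  · have h1 : σ s * σ s = 0 := by rw [← map_mul, hst, map_mul, hf0, zero_mul]
    have h2 : τ s * τ s = 0 := by rw [← map_mul, hst, map_mul, ← hστ, hf0, zero_mul]
    rw [mul_self_eq_zero.mp h1, mul_self_eq_zero.mp h2]
  · have hσu : IsUnit (σ (algebraMap A E f)) := isUnit_iff_ne_zero.mpr hf0
    have hτu : IsUnit (τ (algebraMap A E f)) := hστ f ▸ hσu
    let σ' : C →+* P.ResidueField := IsLocalization.Away.lift _ hσu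
    let τ' : C →+* P.ResidueField := IsLocalization.Away.lift _ hτu
    have hσ' : ∀ z, σ' (algebraMap E C z) = σ z := IsLocalization.Away.lift_eq _ hσu
    have hτ' : ∀ z, τ' (algebraMap E C z) = τ z := IsLocalization.Away.lift_eq _ hτu
    have heq : σ' = τ' := hC.hom_ext (IsLocalization.ringHom_ext (Submonoid.powers f)
      (RingHom.ext fun a => by
        show σ' (algebraMap A' C (algebraMap A A' a)) = τ' (algebraMap A' C (algebraMap A A' a))
        rw [← IsScalarTower.algebraMap_apply, IsScalarTower.algebraMap_apply A E C, hσ', hτ', hστ]))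
    rw [← hσ' s, ← hτ' s, heq]

theorem uh_extAlg (hC : UH (algebraMap A' C)) : UH (algebraMap A (extAlg f C)) := by
  obtain ⟨hint, hnil, hsurj⟩ := (uh_iff (A := A') (B := C)).mp hC
  refine (uh_iff (A := A)).mpr ⟨?_, fun s => ?_, fun p => ?_⟩
  · refine ⟨fun z => (isIntegral_algHom_iff (extAlg f C).val Subtype.val_injective).1 ?_⟩
    have hle : extAlg f C ≤ integralClosure A (C × (A ⧸ Ideal.span {f})) :=
      Algebra.adjoin_le fun w ⟨c, hc, hw⟩ => by
        subst hw
        obtain ⟨p, hp, hp0⟩ := isIntegral_algebraMap (x := f) |>.mul hc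
        refine ⟨Polynomial.X * p, Polynomial.monic_X.mul hp, ?_⟩
        refine Prod.ext ?_ ?_
        · show (AlgHom.fst A C _) (Polynomial.aeval (algebraMap A C f * c, (0 : A ⧸ Ideal.span {f}))
            (Polynomial.X * p)) = 0
          rw [← Polynomial.aeval_algHom_apply, map_mul, Polynomial.aeval_def, Polynomial.aeval_def]
          exact mul_eq_zero_of_right _ hp0
        · show (AlgHom.snd A C _) (Polynomial.aeval (algebraMap A C f * c, (0 : A ⧸ Ideal.span {f}))
            (Polynomial.X * p)) = 0
          rw [← Polynomial.aeval_algHom_apply, map_mul, Polynomial.aeval_X]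
          exact zero_mul _
    exact hle z.2
  · rw [← mem_eqRed]
    have hgen : ∀ z (hz : z ∈ extSet f C),
        (⟨z, Algebra.subset_adjoin hz⟩ : extAlg f C) ∈ eqRed A (extAlg f C) := by
      rintro z ⟨c, hc, rfl⟩
      letI := (extFst f C).toRingHom.toAlgebra
      haveI : IsScalarTower A (extAlg f C) C :=
        .of_algebraMap_eq' (extFst f C).comp_algebraMap.symm
      haveI := extAlg_isLocalization (A' := A') f (C := C)
      rw [mem_eqRed]
      refine isNilpotent_sub_of_mul_self_eq (A' := A') f (C := C) hC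
        (t := ⟨(algebraMap A C f * (c * c), 0), Algebra.subset_adjoin ⟨c * c, hc.mul hc, rfl⟩⟩) ?_
      refine Subtype.ext (Prod.ext ?_ ?_)
      · show algebraMap A C f * c * (algebraMap A C f * c) =
          algebraMap A C f * (algebraMap A C f * (c * c))
        ring
      · show (0 : A ⧸ Ideal.span {f}) * 0 = algebraMap A (A ⧸ Ideal.span {f}) f * 0
        rw [mul_zero, mul_zero]
    have hle : ∀ z (hz : z ∈ extAlg f C), (⟨z, hz⟩ : extAlg f C) ∈ eqRed A (extAlg f C) := by
      intro z hz
      induction hz using Algebra.adjoin_induction with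
      | mem x hx => exact hgen x hx
      | algebraMap r => exact Subalgebra.algebraMap_mem _ r
      | add x y hx hy ihx ihy => exact Subalgebra.add_mem _ ihx ihy
      | mul x y hx hy ihx ihy => exact Subalgebra.mul_mem _ ihx ihy
    exact hle s.1 s.2
  · by_cases hp : f ∈ p.asIdeal
    · let ρ : extAlg f C →+* A ⧸ p.asIdeal :=
        (Ideal.Quotient.factor ((Ideal.span_singleton_le_iff_mem _).mpr hp)).comp
          ((AlgHom.snd A C (A ⧸ Ideal.span {f})).comp (extAlg f C).val).toRingHom
      refine ⟨⟨RingHom.ker ρ, RingHom.ker_isPrime ρ⟩, PrimeSpectrum.ext (Ideal.ext fun a => ?_)⟩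
      exact Ideal.Quotient.eq_zero_iff_mem
    · have hp' : p ∈ Set.range (PrimeSpectrum.comap (algebraMap A A')) := by
        rw [PrimeSpectrum.localization_away_comap_range A' f]
        exact hp
      obtain ⟨p', rfl⟩ := hp'
      obtain ⟨Q, rfl⟩ := hsurj p'
      refine ⟨PrimeSpectrum.comap (extFst f C).toRingHom Q, PrimeSpectrum.ext (Ideal.ext fun a => ?_)⟩
      show (extFst f C) (algebraMap A _ a) ∈ Q.asIdeal ↔
        algebraMap A' C (algebraMap A A' a) ∈ Q.asIdeal
      rw [AlgHom.commutes, ← IsScalarTower.algebraMap_apply]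

theorem isLocalization_of_isRingAWN {W W' : Type u} [CommRing W] [_root_.IsReduced W] [CommRing W']
    [_root_.IsReduced W'] [Algebra A W] [Algebra A' W'] [Algebra A W'] [IsScalarTower A A' W']
    [Algebra W W'] [IsScalarTower A W W'] (hW : HTop.IsRingAWN (algebraMap A W))
    (hW' : UH (algebraMap A' W')) : IsLocalization.Away (algebraMap A W f) W' := by
  obtain ⟨hint', -, hsurj'⟩ := (uh_iff (A := A') (B := W')).mp hW'
  haveI := hint'
  have hfu : IsUnit (algebraMap W W' (algebraMap A W f)) := by
    rw [← IsScalarTower.algebraMap_apply, IsScalarTower.algebraMap_apply A A' W']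
    exact (IsLocalization.Away.algebraMap_isUnit f).map _
  refine IsLocalization.Away.mk _ hfu (fun w' => ?_) fun x y hxy => ?_
  · have hE : UH (algebraMap A (extAlg f W')) := uh_extAlg (A' := A') f hW'
    obtain ⟨χ, hχ, -⟩ := hW.2 _ _ hE
    have hcomp : (algebraMap W W').comp χ = (extFst f W').toRingHom :=
      hE.hom_ext (by
        rw [RingHom.comp_assoc, hχ, ← IsScalarTower.algebraMap_eq]
        exact (extFst f W').comp_algebraMap.symm)
    letI := (extFst f W').toRingHom.toAlgebra
    haveI := extAlg_isLocalization (A' := A') f (C := W')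
    obtain ⟨n, z, hz⟩ := IsLocalization.Away.surj (algebraMap A (extAlg f W') f) w'
    refine ⟨n, χ z, ?_⟩
    refine Eq.trans ?_ (RingHom.congr_fun hcomp z).symm
    refine Eq.trans ?_ hz
    congr 2
    rw [← IsScalarTower.algebraMap_apply]
    exact ((extFst f W').commutes f).symm
  · refine ⟨1, sub_eq_zero.mp ?_⟩
    rw [← mul_sub, pow_one]
    have hxy' : algebraMap W W' (x - y) = 0 := by rw [map_sub, hxy, sub_self]
    refine IsNilpotent.eq_zero (nilpotent_iff_mem_prime.mpr fun P hP => ?_)
    by_cases hP' : algebraMap A W f ∈ P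
    · exact P.mul_mem_right _ hP'
    · have hp' : PrimeSpectrum.comap (algebraMap A W) ⟨P, hP⟩ ∈
          Set.range (PrimeSpectrum.comap (algebraMap A A')) := by
        rw [PrimeSpectrum.localization_away_comap_range A' f]
        exact hP'
      obtain ⟨p', hp'⟩ := hp'
      obtain ⟨Q, rfl⟩ := hsurj' p'
      have hbij := (EtaPtLib.isIntegral_of_isUnivHomeo _ hW.1).2
      have hQ : PrimeSpectrum.comap (algebraMap W W') Q = ⟨P, hP⟩ := hbij.1 (by
        refine Eq.trans ?_ hp'
        rw [← PrimeSpectrum.comap_comp_apply, ← PrimeSpectrum.comap_comp_apply,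
          ← IsScalarTower.algebraMap_eq, ← IsScalarTower.algebraMap_eq])
      refine P.mul_mem_left _ ?_
      have h3 : x - y ∈ (PrimeSpectrum.comap (algebraMap W W') Q).asIdeal := by
        show algebraMap W W' (x - y) ∈ Q.asIdeal
        rw [hxy']
        exact Q.asIdeal.zero_mem
      rwa [hQ] at h3

omit [Algebra A C] [Algebra A' C] [IsScalarTower A A' C] in
theorem isLocalization_awnMap :
    letI := (awnMap (algebraMap A A')).toAlgebra
    IsLocalization.Away (algebraMap A (awn A) f) (awn A') := by
  letI := (awnMap (algebraMap A A')).toAlgebra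
  letI : Algebra A (awn A') := ((algebraMap A' (awn A')).comp (algebraMap A A')).toAlgebra
  haveI : IsScalarTower A A' (awn A') := .of_algebraMap_eq' rfl
  haveI : IsScalarTower A (awn A) (awn A') :=
    .of_algebraMap_eq' (awnMap_comp_algebraMap (algebraMap A A')).symm
  exact isLocalization_of_isRingAWN (A' := A') f (isRingAWN_awn A) (uh_awn A')

end localization

end Groth.Agent.WeakNorm
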