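import Groth.Agent.WeakNorm.AwnLoc
import Mathlib.AlgebraicGeometry.Morphisms.Finite
import Mathlib.AlgebraicGeometry.IdealSheaf.Subscheme
import Mathlib.AlgebraicGeometry.Morphisms.Proper

/-!
Morphisms out of an integral universal homeomorphism factor through finite ones.
-/

set_option autoImplicit false
set_option linter.style.haveILetI false
set_option backward.isDefEq.respectTransparency false
universe u

namespace Groth.Agent.WeakNorm

open AlgebraicGeometry CategoryTheory CategoryTheory.Limits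

section sandwich

variable {A B C : Scheme.{u}} {h : A ⟶ B} {π : B ⟶ C}

theorem isUnivHomeo_of_surjective_comp [Surjective h] [IsSeparated π]
    (hc : FlatMor.IsUnivHomeo (h ≫ π)) : FlatMor.IsUnivHomeo π := by
  obtain ⟨hi, hu, hs⟩ := (isUnivHomeo_iff _).mp hc
  haveI := hi
  haveI := hu
  haveI : UniversallyClosed π := UniversallyClosed.of_comp_surjective h π
  haveI : Surjective π := Surjective.of_comp h π
  have hinj : Function.Injective π := fun x y hxy => by
    obtain ⟨a, rfl⟩ := h.surjective x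
    obtain ⟨b, rfl⟩ := h.surjective y
    rw [← Scheme.Hom.comp_apply, ← Scheme.Hom.comp_apply] at hxy
    rw [(h ≫ π).injective hxy]
  have hhom : IsHomeomorph π :=
    isHomeomorph_iff_continuous_isClosedMap_bijective.mpr
      ⟨π.continuous, π.isClosedMap, hinj, π.surjective⟩
  haveI : IsAffineHom π :=
    isAffineHom_of_isInducing π hhom.isEmbedding.isInducing hhom.isClosedEmbedding.isClosed_range
  haveI : IsIntegralHom π :=
    IsIntegralHom.iff_universallyClosed_and_isAffineHom.mpr ⟨inferInstance, inferInstance⟩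
  refine (isUnivHomeo_iff _).mpr ⟨inferInstance, ?_, inferInstance⟩
  rw [UniversallyInjective.iff_diagonal]
  haveI : Surjective (pullback.diagonal (h ≫ π)) := (UniversallyInjective.iff_diagonal _).mp hu
  let p : pullback (h ≫ π) (h ≫ π) ⟶ pullback π π :=
    pullback.map _ _ _ _ h h (𝟙 C) (by simp) (by simp)
  haveI : Surjective p :=
    MorphismProperty.pullbackMap (P := @Surjective) ‹_› ‹_› (by simp) (by simp)
  have : pullback.diagonal (h ≫ π) ≫ p = h ≫ pullback.diagonal π := by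
    apply pullback.hom_ext <;> simp [p]
  haveI : Surjective (h ≫ pullback.diagonal π) := this ▸ inferInstance
  exact Surjective.of_comp h _

theorem residueFieldsIso_of_surjective_comp [Surjective h]
    (hc : HTop.ResidueFieldsIso (h ≫ π)) : HTop.ResidueFieldsIso π := by
  intro y
  obtain ⟨x, rfl⟩ := h.surjective y
  haveI := hc x
  rw [ConcreteCategory.isIso_iff_bijective]
  refine ⟨RingHom.injective _, fun z => ?_⟩
  have he : (h ≫ π).residueFieldMap x = π.residueFieldMap (h x) ≫ h.residueFieldMap x :=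
    Scheme.residueFieldMap_comp h π x
  obtain ⟨w, hw⟩ := (ConcreteCategory.bijective_of_isIso ((h ≫ π).residueFieldMap x)).2
    (h.residueFieldMap x z)
  refine ⟨w, (h.residueFieldMap x).hom.injective ?_⟩
  rw [← hw, he]
  rfl

end sandwich

variable {S X T T' : Scheme.{u}} [S.IsSeparated] [X.IsSeparated] [T.IsSeparated] (fX : X ⟶ S)
  [LocallyOfFiniteType fX] (fT : T ⟶ S) (ν : T' ⟶ T) (hν : FlatMor.IsUnivHomeo ν)

theorem isSeparated_of_isSeparated {X S : Scheme.{u}} [X.IsSeparated] (f : X ⟶ S) :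
    IsSeparated f := by
  haveI : IsSeparated (f ≫ terminal.from S) := by
    rw [terminal.comp_from]; infer_instance
  exact IsSeparated.of_comp f (terminal.from S)

omit [S.IsSeparated] [T.IsSeparated] in
include hν in
theorem exists_factor (g : T' ⟶ X) (hg : g ≫ fX = ν ≫ fT) :
    ∃ (T₁ : Scheme.{u}) (π : T₁ ⟶ T) (_ : IsFinite π) (_ : FlatMor.IsUnivHomeo π) (g₁ : T₁ ⟶ X)
      (h : T' ⟶ T₁) (_ : Surjective h), h ≫ π = ν ∧ g₁ ≫ fX = π ≫ fT ∧ h ≫ g₁ = g := by
  haveI : IsSeparated fX := isSeparated_of_isSeparated fX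
  haveI := ((isUnivHomeo_iff ν).mp hν).1
  let φ : T' ⟶ pullback fT fX := pullback.lift ν g hg.symm
  haveI : QuasiCompact (φ ≫ pullback.fst fT fX) := by
    rw [pullback.lift_fst]; infer_instance
  haveI : QuasiCompact φ := QuasiCompact.of_comp φ (pullback.fst fT fX)
  let π : φ.image ⟶ T := φ.imageι ≫ pullback.fst fT fX
  have hπ : φ.toImage ≫ π = ν := by rw [Scheme.Hom.toImage_imageι_assoc, pullback.lift_fst]
  haveI : IsIntegralHom (φ.toImage ≫ π) := hπ.symm ▸ inferInstance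
  haveI : IsIntegralHom φ.toImage := IsIntegralHom.of_comp φ.toImage π
  haveI : Surjective φ.toImage :=
    surjective_of_isDominant_of_isClosed_range _ φ.toImage.isClosedMap.isClosed_range
  have hUH : FlatMor.IsUnivHomeo π := isUnivHomeo_of_surjective_comp (hπ.symm ▸ hν)
  haveI := ((isUnivHomeo_iff π).mp hUH).1
  haveI : IsFinite π :=
    (IsFinite.iff_isIntegralHom_and_locallyOfFiniteType π).mpr ⟨inferInstance, inferInstance⟩
  refine ⟨φ.image, π, inferInstance, hUH, φ.imageι ≫ pullback.snd fT fX, φ.toImage, inferInstance,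
    hπ, ?_, by rw [Scheme.Hom.toImage_imageι_assoc, pullback.lift_snd]⟩
  simp [π, pullback.condition]

include hν in
theorem exists_common {T₁ T₂ : Scheme.{u}} (π₁ : T₁ ⟶ T) (π₂ : T₂ ⟶ T) [IsFinite π₁] [IsFinite π₂]
    (hπ₁ : FlatMor.IsUnivHomeo π₁) (hπ₂ : FlatMor.IsUnivHomeo π₂) (g₁ : T₁ ⟶ X) (g₂ : T₂ ⟶ X) (h₁ : T' ⟶ T₁) (h₂ : T' ⟶ T₂)
    (hg₁ : g₁ ≫ fX = π₁ ≫ fT) (hg₂ : g₂ ≫ fX = π₂ ≫ fT) (hh₁ : h₁ ≫ π₁ = ν) (hh₂ : h₂ ≫ π₂ = ν)
    (heq : h₁ ≫ g₁ = h₂ ≫ g₂) :
    ∃ (T₃ : Scheme.{u}) (π₃ : T₃ ⟶ T) (_ : IsFinite π₃) (_ : FlatMor.IsUnivHomeo π₃) (a₁ : T₃ ⟶ T₁)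
      (a₂ : T₃ ⟶ T₂) (h₃ : T' ⟶ T₃) (_ : Surjective h₃),
      a₁ ≫ π₁ = π₃ ∧ a₂ ≫ π₂ = π₃ ∧ h₃ ≫ π₃ = ν ∧ a₁ ≫ g₁ = a₂ ≫ g₂ := by
  haveI : IsSeparated fX := isSeparated_of_isSeparated fX
  haveI := ((isUnivHomeo_iff ν).mp hν).1
  let c : pullback π₁ π₂ ⟶ pullback fX fX :=
    pullback.lift (pullback.fst _ _ ≫ g₁) (pullback.snd _ _ ≫ g₂) (by
      rw [Category.assoc, Category.assoc, hg₁, hg₂, pullback.condition_assoc])
  let E := pullback c (pullback.diagonal fX)
  let e : E ⟶ pullback π₁ π₂ := pullback.fst _ _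
  haveI : IsClosedImmersion e := MorphismProperty.pullback_fst _ _ inferInstance
  let π₃ : E ⟶ T := e ≫ pullback.fst π₁ π₂ ≫ π₁
  let h₃ : T' ⟶ E := pullback.lift (pullback.lift h₁ h₂ (hh₁.trans hh₂.symm)) (h₁ ≫ g₁) (by
    apply pullback.hom_ext <;> simp [c, heq])
  have h3 : h₃ ≫ π₃ = ν := by simp [h₃, π₃, e, hh₁]
  haveI : IsIntegralHom (h₃ ≫ π₃) := h3.symm ▸ inferInstance
  haveI : IsIntegralHom h₃ := IsIntegralHom.of_comp h₃ π₃
  haveI : Surjective h₃ := ⟨fun z => by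
    obtain ⟨hπ₁i, hπ₁u, -⟩ := (isUnivHomeo_iff π₁).mp hπ₁
    obtain ⟨-, hνu, hνs⟩ := (isUnivHomeo_iff ν).mp hν
    haveI := hπ₁u
    haveI := ((isUnivHomeo_iff π₂).mp hπ₂).2.1
    haveI : UniversallyInjective (pullback.fst π₁ π₂) :=
      MorphismProperty.pullback_fst _ _ inferInstance
    haveI : UniversallyInjective π₃ :=
      MorphismProperty.comp_mem _ _ _ inferInstance (MorphismProperty.comp_mem _ _ _ inferInstance inferInstance)
    obtain ⟨t, ht⟩ := hνs.surj (π₃ z)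
    exact ⟨t, π₃.injective (by rw [← Scheme.Hom.comp_apply, h3, ht])⟩⟩
  have hUH : FlatMor.IsUnivHomeo π₃ := isUnivHomeo_of_surjective_comp (h3.symm ▸ hν)
  refine ⟨E, π₃, inferInstance, hUH, e ≫ pullback.fst π₁ π₂, e ≫ pullback.snd π₁ π₂, h₃,
    inferInstance, by simp [π₃], by simp [π₃, pullback.condition], h3, ?_⟩
  have hc := pullback.condition (f := c) (g := pullback.diagonal fX)
  have e1 := hc =≫ pullback.fst fX fX
  have e2 := hc =≫ pullback.snd fX fX
  simp only [c, Category.assoc, pullback.lift_fst, pullback.lift_snd, pullback.diagonal_fst,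
    pullback.diagonal_snd, Category.comp_id] at e1 e2
  simp only [e, Category.assoc]
  rw [e1, e2]

end Groth.Agent.WeakNorm
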