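import Groth.Agent.WeakNorm.AwnRing
import Mathlib.AlgebraicGeometry.Properties
import Mathlib.RingTheory.LocalProperties.Reduced

/-!
Seminormality and absolute weak normality are local.
-/

set_option autoImplicit false
set_option linter.style.haveILetI false
set_option backward.isDefEq.respectTransparency false
universe u

namespace Groth.Agent.WeakNorm

open AlgebraicGeometry CategoryTheory TopologicalSpace

section ring

theorem isSeminormalRing_of_ringEquiv {A B : Type u} [CommRing A] [CommRing B] (e : A ≃+* B)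
    (h : HTop.IsSeminormalRing A) : HTop.IsSeminormalRing B := fun x y hxy => by
  obtain ⟨a, ⟨h1, h2⟩, hu⟩ := h (e.symm x) (e.symm y) (by rw [← map_pow, hxy, map_pow])
  refine ⟨e a, ⟨?_, ?_⟩, fun b hb => ?_⟩
  · rw [← map_pow, ← h1, e.apply_symm_apply]
  · rw [← map_pow, ← h2, e.apply_symm_apply]
  · rw [← hu (e.symm b) ⟨by rw [hb.1, map_pow], by rw [hb.2, map_pow]⟩, e.apply_symm_apply]

theorem isSeminormalRing_of_isLocalization {A A' : Type u} [CommRing A] [CommRing A']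
    [Algebra A A'] (f : A) [IsLocalization.Away f A'] (h : HTop.IsSeminormalRing A) :
    HTop.IsSeminormalRing A' := by
  haveI := isReduced_of_isSeminormalRing h
  haveI : _root_.IsReduced A' :=
    isReduced_localizationPreserves (Submonoid.powers f) A' inferInstance
  intro x y hxy
  obtain ⟨n, x₀, hx⟩ := IsLocalization.Away.surj f x
  obtain ⟨m, y₀, hy⟩ := IsLocalization.Away.surj f y
  obtain ⟨u, hu⟩ := IsLocalization.Away.algebraMap_isUnit (S := A') f
  rw [← hu] at hx hy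
  have e : algebraMap A A' ((x₀ * f ^ (2 * (n + m) - n)) ^ 3) =
      algebraMap A A' ((y₀ * f ^ (3 * (n + m) - m)) ^ 2) := by
    simp only [map_pow, map_mul, ← hx, ← hy, ← hu]
    rw [mul_assoc x, mul_assoc y, ← pow_add, ← pow_add, mul_pow, mul_pow, hxy, ← pow_mul, ← pow_mul]
    congr 2
    omega
  obtain ⟨⟨_, k, rfl⟩, hk⟩ := IsLocalization.exists_of_eq (M := Submonoid.powers f) e
  simp only at hk
  obtain ⟨a, ⟨ha2, ha3⟩, -⟩ := h (x₀ * f ^ (2 * (n + m) - n) * f ^ (2 * k))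
    (y₀ * f ^ (3 * (n + m) - m) * f ^ (3 * k)) (by linear_combination f ^ (5 * k) * hk)
  have hua : ∀ j, algebraMap A A' (f ^ j) = (u : A') ^ j := fun j => by rw [map_pow, hu]
  have hx' : x * (u : A') ^ (2 * (n + m + k)) = algebraMap A A' a ^ 2 := by
    rw [← map_pow, ← ha2, map_mul, map_mul, hua, hua, ← hx, mul_assoc, mul_assoc, ← pow_add,
      ← pow_add]
    congr 2
    omega
  have hy' : y * (u : A') ^ (3 * (n + m + k)) = algebraMap A A' a ^ 3 := by
    rw [← map_pow, ← ha3, map_mul, map_mul, hua, hua, ← hy, mul_assoc, mul_assoc, ← pow_add,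
      ← pow_add]
    congr 2
    omega
  have hb2 : x = (algebraMap A A' a * (↑(u⁻¹) : A') ^ (n + m + k)) ^ 2 := by
    rw [mul_pow, ← hx', mul_assoc, ← pow_mul, mul_comm (n + m + k) 2, ← mul_pow, Units.mul_inv,
      one_pow, mul_one]
  have hb3 : y = (algebraMap A A' a * (↑(u⁻¹) : A') ^ (n + m + k)) ^ 3 := by
    rw [mul_pow, ← hy', mul_assoc, ← pow_mul, mul_comm (n + m + k) 3, ← mul_pow, Units.mul_inv,
      one_pow, mul_one]
  exact ⟨_, ⟨hb2, hb3⟩, fun b hb =>
    eq_of_sq_eq_of_cube_eq (hb.1.symm.trans hb2) (hb.2.symm.trans hb3)⟩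

theorem isAWNRing_of_isLocalization {A A' : Type u} [CommRing A] [CommRing A'] [Algebra A A']
    (f : A) [IsLocalization.Away f A'] (h : HTop.IsAWNRing A) : HTop.IsAWNRing A' :=
  isAWNRing_of_ringEquiv
    (IsLocalization.algEquiv (Submonoid.powers f) (Localization.Away f) A').toRingEquiv
    (isAWNRing_away h f)

end ring

section scheme

variable {X : Scheme.{u}}

/-- A compatible family of predicates on sections with local solutions and uniqueness everywhere
has a unique solution. -/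
theorem existsUnique_of_local (U : X.Opens) (S : ∀ V : X.Opens, V ≤ U → Γ(X, V) → Prop)
    (hres : ∀ (V W : X.Opens) (hV : V ≤ U) (hW : W ≤ V) (a : Γ(X, V)), S V hV a →
      S W (hW.trans hV) (X.presheaf.map (homOfLE hW).op a))
    (huniq : ∀ (V : X.Opens) (hV : V ≤ U) (a b : Γ(X, V)), S V hV a → S V hV b → a = b)
    (hglue : ∀ {ι : Type u} (V : ι → X.Opens) (hV : ∀ i, V i ≤ U), U ≤ iSup V → ∀ a : Γ(X, U),
      (∀ i, S (V i) (hV i) (X.presheaf.map (homOfLE (hV i)).op a)) → S U le_rfl a)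
    (hloc : ∀ x ∈ U, ∃ (V : X.Opens) (hV : V ≤ U), x ∈ V ∧ ∃ a, S V hV a) :
    ∃! a, S U le_rfl a := by
  choose V hV hxV a ha using hloc
  let W : U → X.Opens := fun x => V x.1 x.2
  have hcover : U ≤ iSup W := fun x hx => Opens.mem_iSup.mpr ⟨⟨x, hx⟩, hxV x hx⟩
  obtain ⟨g, hg, -⟩ := X.sheaf.existsUnique_gluing' W U (fun i => homOfLE (hV i.1 i.2)) hcover
    (fun i => a i.1 i.2) (fun i j => huniq _ (inf_le_left.trans (hV i.1 i.2)) _ _
      (hres _ _ (hV i.1 i.2) inf_le_left _ (ha i.1 i.2))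
      (hres _ _ (hV j.1 j.2) inf_le_right _ (ha j.1 j.2)))
  have : S U le_rfl g := hglue W (fun i => hV i.1 i.2) hcover g fun i => by
    have := ha i.1 i.2
    rwa [← hg i] at this
  exact ⟨g, this, fun b hb => huniq U le_rfl b g hb this⟩

theorem exists_affine_seminormal (hX : HTop.IsSeminormal X) (U : X.Opens) {x : X} (hx : x ∈ U) :
    ∃ V : X.Opens, IsAffineOpen V ∧ V ≤ U ∧ x ∈ V ∧ HTop.IsSeminormalRing Γ(X, V) := by
  obtain ⟨⟨W, hW⟩, hxW, h⟩ := hX x
  obtain ⟨f, hfU, hxf⟩ := hW.exists_basicOpen_le ⟨x, hx⟩ hxW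
  haveI := hW.isLocalization_basicOpen f
  exact ⟨X.basicOpen f, hW.basicOpen f, hfU, hxf, isSeminormalRing_of_isLocalization f h⟩

theorem exists_affine_awn (hX : HTop.IsAWN X) (U : X.Opens) {x : X} (hx : x ∈ U) :
    ∃ V : X.Opens, IsAffineOpen V ∧ V ≤ U ∧ x ∈ V ∧ HTop.IsAWNRing Γ(X, V) := by
  obtain ⟨⟨W, hW⟩, hxW, h⟩ := hX x
  obtain ⟨f, hfU, hxf⟩ := hW.exists_basicOpen_le ⟨x, hx⟩ hxW
  haveI := hW.isLocalization_basicOpen f
  exact ⟨X.basicOpen f, hW.basicOpen f, hfU, hxf, isAWNRing_of_isLocalization f h⟩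

theorem isReduced_of_isSeminormal (hX : HTop.IsSeminormal X) : IsReduced X := by
  refine ⟨fun U => ⟨fun s hs => ?_⟩⟩
  choose V hV hVU hxV hsn using fun x : U => exists_affine_seminormal hX U x.2
  refine X.sheaf.eq_of_locally_eq' V U (fun i => homOfLE (hVU i))
    (fun x hx => Opens.mem_iSup.mpr ⟨⟨x, hx⟩, hxV ⟨x, hx⟩⟩) s 0 fun i => ?_
  haveI := isReduced_of_isSeminormalRing (hsn i)
  refine (IsNilpotent.eq_zero (hs.map (X.presheaf.map (homOfLE (hVU i)).op).hom)).trans ?_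
  exact (map_zero (X.presheaf.map (homOfLE (hVU i)).op).hom).symm

theorem isSeminormal_of_isAWN (hX : HTop.IsAWN X) : HTop.IsSeminormal X := fun x =>
  let ⟨U, hxU, h⟩ := hX x
  ⟨U, hxU, h.1⟩

theorem isSeminormalRing_sections (hX : HTop.IsSeminormal X) (U : X.Opens) :
    HTop.IsSeminormalRing Γ(X, U) := by
  haveI := isReduced_of_isSeminormal hX
  intro x y hxy
  let r := fun (V : X.Opens) (hV : V ≤ U) => (X.presheaf.map (homOfLE hV).op).hom
  have hr : ∀ (V W : X.Opens) (hV : V ≤ U) (hW : W ≤ V) (z : Γ(X, U)),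
      X.presheaf.map (homOfLE hW).op (r V hV z) = r W (hW.trans hV) z := fun V W hV hW z => by
    rw [← CommRingCat.comp_apply, ← X.presheaf.map_comp]; rfl
  refine (existsUnique_congr fun a => ?_).mpr (existsUnique_of_local U
    (fun V hV a => r V hV x = a ^ 2 ∧ r V hV y = a ^ 3) (fun V W hV hW a ha => ?_)
    (fun V hV a b ha hb => eq_of_sq_eq_of_cube_eq (ha.1.symm.trans hb.1) (ha.2.symm.trans hb.2))
    (fun W hW hc a ha => ⟨?_, ?_⟩) (fun p hp => ?_))
  · simp [r]
  · exact ⟨by rw [← hr V W hV hW, ha.1, map_pow], by rw [← hr V W hV hW, ha.2, map_pow]⟩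
  · refine X.sheaf.eq_of_locally_eq' W U (fun i => homOfLE (hW i)) hc _ _ fun i => ?_
    show X.presheaf.map _ (r U le_rfl x) = X.presheaf.map _ (a ^ 2)
    rw [hr, (ha i).1, map_pow]
  · refine X.sheaf.eq_of_locally_eq' W U (fun i => homOfLE (hW i)) hc _ _ fun i => ?_
    show X.presheaf.map _ (r U le_rfl y) = X.presheaf.map _ (a ^ 3)
    rw [hr, (ha i).2, map_pow]
  · obtain ⟨V, -, hVU, hpV, h⟩ := exists_affine_seminormal hX U hp
    obtain ⟨a, ha, -⟩ := h (r V hVU x) (r V hVU y) (by rw [← map_pow, hxy, map_pow])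
    exact ⟨V, hVU, hpV, a, ha⟩

theorem isAWNRing_sections (hX : HTop.IsAWN X) (U : X.Opens) : HTop.IsAWNRing Γ(X, U) := by
  have hsn := isSeminormal_of_isAWN hX
  refine ⟨isSeminormalRing_sections hsn U, fun q hq x y hxy => ?_⟩
  haveI := isReduced_of_isSeminormal hsn
  let r := fun (V : X.Opens) (hV : V ≤ U) => (X.presheaf.map (homOfLE hV).op).hom
  have hr : ∀ (V W : X.Opens) (hV : V ≤ U) (hW : W ≤ V) (z : Γ(X, U)),
      X.presheaf.map (homOfLE hW).op (r V hV z) = r W (hW.trans hV) z := fun V W hV hW z => by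
    rw [← CommRingCat.comp_apply, ← X.presheaf.map_comp]; rfl
  refine (existsUnique_congr fun a => ?_).mpr (existsUnique_of_local U
    (fun V hV a => r V hV x = a ^ q ∧ r V hV y = (q : Γ(X, V)) * a) (fun V W hV hW a ha => ?_)
    (fun V hV a b ha hb => eq_of_mul_eq_of_pow_eq hq (ha.2.symm.trans hb.2) (ha.1.symm.trans hb.1))
    (fun W hW hc a ha => ⟨?_, ?_⟩) (fun p hp => ?_))
  · simp [r]
  · exact ⟨by rw [← hr V W hV hW, ha.1, map_pow], by
      rw [← hr V W hV hW, ha.2, map_mul, map_natCast]⟩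
  · refine X.sheaf.eq_of_locally_eq' W U (fun i => homOfLE (hW i)) hc _ _ fun i => ?_
    show X.presheaf.map _ (r U le_rfl x) = X.presheaf.map _ (a ^ q)
    rw [hr, (ha i).1, map_pow]
  · refine X.sheaf.eq_of_locally_eq' W U (fun i => homOfLE (hW i)) hc _ _ fun i => ?_
    show X.presheaf.map _ (r U le_rfl y) = X.presheaf.map _ ((q : Γ(X, U)) * a)
    rw [hr, (ha i).2, map_mul, map_natCast]
  · obtain ⟨V, -, hVU, hpV, h⟩ := exists_affine_awn hX U hp
    obtain ⟨a, ha, -⟩ := h.2 q hq (r V hVU x) (r V hVU y) (by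
      rw [← map_natCast (r V hVU), ← map_pow, ← map_mul, hxy, map_pow])
    exact ⟨V, hVU, hpV, a, ha⟩

/-- Locality on rings, through the spectrum. -/
theorem of_span_eq_top (P : ∀ (R : Type u) [CommRing R], Prop)
    (he : ∀ (R S : Type u) [CommRing R] [CommRing S], (R ≃+* S) → P R → P S)
    (hsec : ∀ (X : Scheme.{u}), (∀ x : X, ∃ U : X.affineOpens, x ∈ (U : X.Opens) ∧ P Γ(X, U)) →
      ∀ U : X.Opens, P Γ(X, U))
    (A : Type u) [CommRing A] (s : Finset A) (hs : Ideal.span (s : Set A) = ⊤)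
    (h : ∀ f ∈ s, P (Localization.Away f)) : P A := by
  let X := Spec (CommRingCat.of A)
  refine he Γ(X, ⊤) A (Scheme.ΓSpecIso (CommRingCat.of A)).commRingCatIsoToRingEquiv (hsec X ?_ ⊤)
  intro x
  obtain ⟨f, hf, hfx⟩ : ∃ f ∈ s, f ∉ (x : PrimeSpectrum A).asIdeal := by
    by_contra hcon
    push Not at hcon
    refine (x : PrimeSpectrum A).2.ne_top (top_le_iff.mp ?_)
    rw [← hs]
    exact Ideal.span_le.mpr hcon
  refine ⟨⟨PrimeSpectrum.basicOpen f, IsAffineOpen.Spec_basicOpen (R := CommRingCat.of A) f⟩, hfx, ?_⟩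
  exact he _ _ (IsLocalization.algEquiv (Submonoid.powers f) (Localization.Away f)
    ((AlgebraicGeometry.Spec.structureSheaf A).obj.obj
      (Opposite.op (PrimeSpectrum.basicOpen f)))).toRingEquiv (h f hf)

end scheme

end Groth.Agent.WeakNorm
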