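import Groth.Agent.WeakNorm.AwnScheme
import Groth.Agent.WeakNorm.AwnLocal

/-!
Absolutely weakly normal schemes and their normalizations.
-/

set_option autoImplicit false
set_option linter.style.haveILetI false
set_option backward.isDefEq.respectTransparency false
universe u

namespace Groth.Agent.WeakNorm

open AlgebraicGeometry CategoryTheory CategoryTheory.Limits
open Scheme.AffineZariskiSite

theorem isIso_of_isAWN {X Y : Scheme.{u}} (hX : HTop.IsAWN X) (π : Y ⟶ X)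
    (hπ : FlatMor.IsUnivHomeo π) [IsReduced Y] : IsIso π := by
  obtain ⟨hi, hu, hs⟩ := (isUnivHomeo_iff π).mp hπ
  haveI := hi
  refine (IsZariskiLocalAtTarget.iff_of_iSup_eq_top (P := MorphismProperty.isomorphisms Scheme)
    _ (iSup_affineOpens_eq_top X)).mpr fun ⟨U, hU⟩ => ?_
  show IsIso (π ∣_ U)
  haveI : IsAffine (π ⁻¹ᵁ U) := hU.preimage π
  haveI : IsAffine U := hU
  have e : Spec.map (π.app U) = (hU.preimage π).isoSpec.inv ≫ (π ∣_ U) ≫ hU.isoSpec.hom := by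
    rw [Iso.eq_inv_comp]
    simp [IsAffineOpen.isoSpec_hom, Scheme.Hom.app_eq_appLE, Scheme.Hom.resLE_eq_morphismRestrict]
  have happ : UH (π.app U).hom := by
    show FlatMor.IsUnivHomeo (Spec.map (π.app U))
    rw [e]
    refine isUnivHomeo_comp (isUnivHomeo_of_isIso _)
      (isUnivHomeo_comp ?_ (isUnivHomeo_of_isIso _))
    rw [isUnivHomeo_iff]
    exact ⟨inferInstance, IsZariskiLocalAtTarget.restrict hu _,
      IsZariskiLocalAtTarget.restrict hs _⟩
  haveI : IsIso (π.app U) :=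
    (ConcreteCategory.isIso_iff_bijective _).mpr (bijective_of_uh (isAWNRing_sections hX U) happ)
  haveI : IsIso ((hU.preimage π).isoSpec.inv ≫ (π ∣_ U) ≫ hU.isoSpec.hom) := by
    rw [← e]; infer_instance
  haveI := IsIso.of_isIso_comp_left (hU.preimage π).isoSpec.inv ((π ∣_ U) ≫ hU.isoSpec.hom)
  exact IsIso.of_isIso_comp_right (π ∣_ U) hU.isoSpec.hom

theorem isAWN_of_isOpenCover {X : Scheme.{u}} {ι : Type*} (Y : ι → Scheme.{u})
    (f : ∀ i, Y i ⟶ X) [∀ i, IsOpenImmersion (f i)] (hc : ∀ x : X, ∃ i, x ∈ (f i).opensRange)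
    [∀ i, IsAffine (Y i)] (h : ∀ i, HTop.IsAWNRing Γ(Y i, ⊤)) : HTop.IsAWN X := fun x => by
  obtain ⟨i, hi⟩ := hc x
  refine ⟨⟨(f i).opensRange, isAffineOpen_opensRange (f i)⟩, hi, isAWNRing_of_ringEquiv ?_ (h i)⟩
  exact (X.presheaf.mapIso (eqToIso (Scheme.Hom.image_top_eq_opensRange (f i))).op ≪≫
    (f i).appIso ⊤).commRingCatIsoToRingEquiv.symm

theorem isAWN_glued (X : Scheme.{u}) : HTop.IsAWN (awnGlueData X).glued := by
  haveI : ∀ U, IsAffine ((awnGlueData X).functor.obj U) :=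
    fun U => inferInstanceAs (IsAffine (Spec (CommRingCat.of (awn Γ(X, U.1)))))
  refine isAWN_of_isOpenCover (fun U : X.AffineZariskiSite => (awnGlueData X).functor.obj U)
    (fun U => colimit.ι (awnGlueData X).functor U) (fun x => ?_) fun U => ?_
  · obtain ⟨U, y, hy⟩ := Scheme.IsLocallyDirected.ι_jointly_surjective (awnGlueData X).functor x
    exact ⟨U, y, hy⟩
  · exact isAWNRing_of_ringEquiv
      (Scheme.ΓSpecIso (CommRingCat.of (awn Γ(X, U.1)))).commRingCatIsoToRingEquiv.symm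
      (isAWNRing_awn _)

instance (X : Scheme.{u}) : IsReduced (awnGlueData X).glued :=
  isReduced_of_isSeminormal (isSeminormal_of_isAWN (isAWN_glued X))

theorem isAWN_of_iso {X Y : Scheme.{u}} (e : X ⟶ Y) [IsIso e] (h : HTop.IsAWN X) : HTop.IsAWN Y :=
  fun y => by
    obtain ⟨x, rfl⟩ := e.surjective y
    obtain ⟨⟨U, hU⟩, hxU, hr⟩ := h x
    exact ⟨⟨e ''ᵁ U, hU.image_of_isOpenImmersion e⟩, ⟨x, hxU, rfl⟩,
      isAWNRing_of_ringEquiv (e.appIso U).commRingCatIsoToRingEquiv.symm hr⟩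

theorem exists_iso {X X' X'' : Scheme.{u}} {ν : X' ⟶ X} {μ : X'' ⟶ X}
    (hν : HTop.IsAWNormalization ν) (hμ : HTop.IsAWNormalization μ) :
    ∃ e : X' ≅ X'', e.hom ≫ μ = ν := by
  obtain ⟨h, hh, -⟩ := hν.2 _ μ hμ.1
  obtain ⟨g, hg, -⟩ := hμ.2 _ ν hν.1
  obtain ⟨a, -, ha⟩ := hν.2 _ ν hν.1
  obtain ⟨b, -, hb⟩ := hμ.2 _ μ hμ.1
  refine ⟨⟨h, g, ?_, ?_⟩, hh⟩
  · rw [ha (h ≫ g) (by show (h ≫ g) ≫ ν = ν; rw [Category.assoc, hg, hh]),
      ha (𝟙 _) (Category.id_comp ν)]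
  · rw [hb (g ≫ h) (by show (g ≫ h) ≫ μ = μ; rw [Category.assoc, hh, hg]),
      hb (𝟙 _) (Category.id_comp μ)]

theorem isAWN_of_isAWNormalization {X X' : Scheme.{u}} {ν : X' ⟶ X}
    (hν : HTop.IsAWNormalization ν) : HTop.IsAWN X' :=
  (exists_iso (isAWNormalization_toBase X) hν).elim fun e _ => isAWN_of_iso e.hom (isAWN_glued X)

theorem isAWNormalization_id {X : Scheme.{u}} (hX : HTop.IsAWN X) :
    HTop.IsAWNormalization (𝟙 X) := by
  haveI := isIso_of_isAWN hX _ (uh_toBase X)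
  obtain ⟨h1, h2⟩ := isAWNormalization_toBase X
  refine ⟨isUnivHomeo_of_isIso _, fun Y π hπ => ?_⟩
  obtain ⟨h, hh, hu⟩ := h2 Y π hπ
  refine ⟨inv (awnGlueData X).toBase ≫ h, by simp [hh], fun g hg => ?_⟩
  rw [← hu ((awnGlueData X).toBase ≫ g) (by show (_ ≫ g) ≫ π = _; rw [Category.assoc, hg, Category.comp_id])]
  simp

theorem isAWN_iff {X : Scheme.{u}} :
    (HTop.IsAWN X ↔ HTop.IsAWNormalization (𝟙 X)) ∧
      (HTop.IsAWN X ↔ ∀ (Y : Scheme.{u}) (π : Y ⟶ X), FlatMor.IsUnivHomeo π →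
        IsReduced Y → IsIso π) := by
  refine ⟨⟨isAWNormalization_id, isAWN_of_isAWNormalization⟩,
    ⟨fun h Y π hπ _ => isIso_of_isAWN h π hπ, fun h => ?_⟩⟩
  haveI : IsIso (awnGlueData X).toBase := h _ _ (uh_toBase X) inferInstance
  exact isAWN_of_iso (awnGlueData X).toBase (isAWN_glued X)

theorem universallyInjective_of_comp {X Y Z : Scheme.{u}} (f : X ⟶ Y) (g : Y ⟶ Z)
    [UniversallyInjective (f ≫ g)] : UniversallyInjective f := by
  refine ((tfae_universallyInjective f).out 0 1).mpr fun K instK a b hab => ?_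
  have hiff : UniversallyInjective (f ≫ g) ↔ ∀ (K : Type u) [Field K],
      Function.Injective (fun t : Spec (.of K) ⟶ X => t ≫ f ≫ g) :=
    (tfae_universallyInjective (f ≫ g)).out 0 1
  refine @hiff.mp inferInstance K instK a b ?_
  show a ≫ f ≫ g = b ≫ f ≫ g
  simp only at hab
  rw [← Category.assoc, hab, Category.assoc]

theorem comparison_isIso_iff {X X' Y : Scheme.{u}} {ν : X' ⟶ X} (hν : HTop.IsAWNormalization ν)
    {π : Y ⟶ X} (hπ : FlatMor.IsUnivHomeo π) {h : X' ⟶ Y} (hh : h ≫ π = ν) :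
    IsIso h ↔ HTop.IsAWN Y := by
  refine ⟨fun _ => isAWN_of_iso h (isAWN_of_isAWNormalization hν), fun hY => ?_⟩
  haveI := isReduced_of_isSeminormal (isSeminormal_of_isAWN (isAWN_of_isAWNormalization hν))
  obtain ⟨hi, hu, hs⟩ := (isUnivHomeo_iff π).mp hπ
  obtain ⟨hi', hu', hs'⟩ := (isUnivHomeo_iff ν).mp hν.1
  haveI := hi
  haveI : IsIntegralHom (h ≫ π) := hh ▸ hi'
  haveI : UniversallyInjective (h ≫ π) := hh ▸ hu'
  refine isIso_of_isAWN hY h ((isUnivHomeo_iff h).mpr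
    ⟨IsIntegralHom.of_comp h π, universallyInjective_of_comp h π, ⟨fun y => ?_⟩⟩)
  obtain ⟨x, hx⟩ := hs'.surj (π y)
  haveI := hu
  refine ⟨x, π.injective ?_⟩
  rw [← Scheme.Hom.comp_apply, hh, hx]

end Groth.Agent.WeakNorm
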