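import Groth.Prelude.Def_Flat
import Mathlib.AlgebraicGeometry.Morphisms.Integral
import Mathlib.AlgebraicGeometry.Morphisms.UniversallyInjective
import Mathlib.AlgebraicGeometry.Morphisms.UnderlyingMap
import Mathlib.FieldTheory.IsAlgClosed.AlgebraicClosure
import Mathlib.RingTheory.Kaehler.Basic
import Mathlib.RingTheory.Spectrum.Prime.Topology
import Mathlib.RingTheory.LocalRing.ResidueField.Ideal

/-!
Weak normalization as an equaliser: universally injective affine morphisms and nilpotent differences.
-/

set_option autoImplicit false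
set_option linter.style.haveILetI false
universe u

namespace Groth.Agent.WeakNorm

open AlgebraicGeometry CategoryTheory CategoryTheory.Limits
open scoped TensorProduct

lemma universallyInjective_iff_isNilpotent (A S : Type u) [CommRing A] [CommRing S] [Algebra A S] :
    UniversallyInjective (Spec.map (CommRingCat.ofHom (algebraMap A S))) ↔
      ∀ s : S, IsNilpotent (s ⊗ₜ[A] (1 : S) - (1 : S) ⊗ₜ[A] s) := by
  let μ := (Algebra.TensorProduct.lmul' A : S ⊗[A] S →ₐ[A] S).toRingHom
  have hμ : Function.Surjective μ := fun x => ⟨x ⊗ₜ 1, by simp [μ]⟩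
  have h1 : UniversallyInjective (Spec.map (CommRingCat.ofHom (algebraMap A S))) ↔
      Function.Surjective (PrimeSpectrum.comap μ) := by
    rw [UniversallyInjective.iff_diagonal, AlgebraicGeometry.diagonal_SpecMap,
      MorphismProperty.cancel_right_of_respectsIso @Surjective, surjective_iff]
    rfl
  have h2 : Function.Surjective (PrimeSpectrum.comap μ) ↔ RingHom.ker μ ≤ nilradical _ := by
    rw [← PrimeSpectrum.denseRange_comap_iff_ker_le_nilRadical]
    refine ⟨fun h => h.denseRange, fun h => ?_⟩
    rw [← Set.range_eq_univ, ← (PrimeSpectrum.isClosed_range_comap_of_surjective _ μ hμ).closure_eq]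
    exact h.closure_range
  rw [h1, h2]
  constructor
  · intro h s
    refine mem_nilradical.1 (h ?_)
    simp [μ, RingHom.mem_ker]
  · intro h
    change KaehlerDifferential.ideal A S ≤ nilradical _
    rw [← KaehlerDifferential.span_range_eq_ideal, Ideal.span_le]
    rintro _ ⟨s, rfl⟩
    refine mem_nilradical.2 ?_
    show IsNilpotent ((1 : S) ⊗ₜ[A] s - s ⊗ₜ[A] (1 : S))
    rw [← neg_sub]
    exact (h s).neg

lemma exists_lift_of_liesOver {E B K : Type u} [CommRing E] [CommRing B] [Field K] [IsAlgClosed K]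
    [Algebra E B] [Algebra.IsIntegral E B] (σ : E →+* K) (Q : Ideal B) [Q.IsPrime]
    [Q.LiesOver (RingHom.ker σ)] : ∃ σ' : B →+* K, ∀ e, σ' (algebraMap E B e) = σ e := by
  let q := RingHom.ker σ
  haveI : q.IsPrime := RingHom.ker_isPrime σ
  letI : Algebra (E ⧸ q) K := (RingHom.kerLift σ).toAlgebra
  haveI : Algebra.IsIntegral (E ⧸ q) (B ⧸ Q) := inferInstance
  haveI : Algebra.IsAlgebraic (E ⧸ q) (B ⧸ Q) := Algebra.IsIntegral.isAlgebraic
  haveI : Module.IsTorsionFree (E ⧸ q) (B ⧸ Q) :=
    Module.isTorsionFree_iff_algebraMap_injective.mpr (FaithfulSMul.algebraMap_injective _ _)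
  haveI : Module.IsTorsionFree (E ⧸ q) K :=
    Module.isTorsionFree_iff_algebraMap_injective.mpr (RingHom.kerLift_injective σ)
  let l : B ⧸ Q →ₐ[E ⧸ q] K := IsAlgClosed.lift
  exact ⟨l.toRingHom.comp (Ideal.Quotient.mk Q), fun e => l.commutes (Ideal.Quotient.mk q e)⟩

lemma exists_lift {E B K : Type u} [CommRing E] [CommRing B] [Field K] [IsAlgClosed K] [Algebra E B]
    [Algebra.IsIntegral E B] (hinj : Function.Injective (algebraMap E B)) (σ : E →+* K) :
    ∃ σ' : B →+* K, ∀ e, σ' (algebraMap E B e) = σ e := by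
  haveI : (RingHom.ker σ).IsPrime := RingHom.ker_isPrime σ
  haveI : FaithfulSMul E B := (faithfulSMul_iff_algebraMap_injective E B).mpr hinj
  obtain ⟨⟨Q, hQ⟩, hQq⟩ :=
    Algebra.IsIntegral.comap_surjective E B ⟨RingHom.ker σ, inferInstance⟩
  haveI : Q.LiesOver (RingHom.ker σ) := ⟨(congrArg PrimeSpectrum.asIdeal hQq).symm⟩
  exact exists_lift_of_liesOver σ Q

lemma isNilpotent_descend {A E B : Type u} [CommRing A] [CommRing E] [CommRing B] [Algebra A E]
    [Algebra A B] [Algebra E B] [IsScalarTower A E B] [Algebra.IsIntegral E B]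
    (hinj : Function.Injective (algebraMap E B)) (e : E)
    (h : IsNilpotent (algebraMap E B e ⊗ₜ[A] (1 : B) - (1 : B) ⊗ₜ[A] algebraMap E B e)) :
    IsNilpotent (e ⊗ₜ[A] (1 : E) - (1 : E) ⊗ₜ[A] e) := by
  rw [nilpotent_iff_mem_prime]
  intro p hp
  let π : E ⊗[A] E →+* AlgebraicClosure p.ResidueField :=
    (algebraMap p.ResidueField (AlgebraicClosure p.ResidueField)).comp
      (algebraMap (E ⊗[A] E) p.ResidueField)
  obtain ⟨s, hs⟩ := exists_lift (B := B) hinj
    (π.comp (Algebra.TensorProduct.includeLeftRingHom : E →+* E ⊗[A] E))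
  obtain ⟨t, ht⟩ := exists_lift (B := B) hinj
    (π.comp (Algebra.TensorProduct.includeRight : E →ₐ[A] E ⊗[A] E).toRingHom)
  letI : Algebra A (AlgebraicClosure p.ResidueField) := (π.comp (algebraMap A (E ⊗[A] E))).toAlgebra
  let s' : B →ₐ[A] AlgebraicClosure p.ResidueField :=
    { s with
      commutes' := fun a => (congrArg s (IsScalarTower.algebraMap_apply A E B a)).trans
        (hs (algebraMap A E a)) }
  let t' : B →ₐ[A] AlgebraicClosure p.ResidueField :=
    { t with
      commutes' := fun a => (congrArg t (IsScalarTower.algebraMap_apply A E B a)).trans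
        ((ht (algebraMap A E a)).trans
          (congrArg π (Algebra.TensorProduct.includeRight.commutes a))) }
  have h0 := (h.map (Algebra.TensorProduct.lift s' t' (fun _ _ => Commute.all _ _))).eq_zero
  rw [map_sub, Algebra.TensorProduct.lift_tmul, Algebra.TensorProduct.lift_tmul, map_one,
    map_one, mul_one, one_mul, sub_eq_zero] at h0
  have h1 : π (e ⊗ₜ[A] (1 : E) - (1 : E) ⊗ₜ[A] e) = 0 := by
    rw [map_sub, sub_eq_zero]
    exact ((hs e).symm.trans h0).trans (ht e)
  refine (Ideal.algebraMap_residueField_eq_zero (I := p)).1 ?_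
  exact (algebraMap p.ResidueField (AlgebraicClosure p.ResidueField)).injective
    (h1.trans (map_zero _).symm)

section

variable (A B : Type u) [CommRing A] [CommRing B] [Algebra A B]

/-- the equaliser of the two maps `B → (B ⊗ B)_red` -/
noncomputable def eqRed : Subalgebra A B :=
  AlgHom.equalizer
    ((Ideal.Quotient.mkₐ A (nilradical (B ⊗[A] B))).comp Algebra.TensorProduct.includeLeft)
    ((Ideal.Quotient.mkₐ A (nilradical (B ⊗[A] B))).comp Algebra.TensorProduct.includeRight)

lemma mem_eqRed (b : B) :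
    b ∈ eqRed A B ↔ IsNilpotent (b ⊗ₜ[A] (1 : B) - (1 : B) ⊗ₜ[A] b) :=
  (Ideal.Quotient.mk_eq_mk_iff_sub_mem _ _).trans mem_nilradical

theorem main (hinj : Function.Injective (algebraMap A B)) [Algebra.IsIntegral A B] :
    ∃ E : Subalgebra A B, (∀ b : B, b ∈ E ↔ IsNilpotent (b ⊗ₜ[A] (1 : B) - (1 : B) ⊗ₜ[A] b)) ∧
      FlatMor.IsUnivHomeo (Spec.map (CommRingCat.ofHom (algebraMap A E))) ∧
      ∀ C : Subalgebra A B,
        FlatMor.IsUnivHomeo (Spec.map (CommRingCat.ofHom (algebraMap A C))) → C ≤ E := by
  refine ⟨eqRed A B, mem_eqRed A B, ?_, fun C hC c hc => ?_⟩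
  · let E := eqRed A B
    have hEinj : Function.Injective (algebraMap A E) := fun x y h =>
      hinj (congrArg Subtype.val h)
    haveI : Algebra.IsIntegral A E := Algebra.IsIntegral.of_injective E.val Subtype.val_injective
    haveI : IsIntegralHom (Spec.map (CommRingCat.ofHom (algebraMap A E))) :=
      IsIntegralHom.SpecMap_iff.2 (algebraMap_isIntegral_iff.2 inferInstance)
    haveI : Surjective (Spec.map (CommRingCat.ofHom (algebraMap A E))) :=
      ⟨(RingHom.IsIntegral.comap_surjective (algebraMap_isIntegral_iff.2 inferInstance) hEinj)⟩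
    haveI : UniversallyInjective (Spec.map (CommRingCat.ofHom (algebraMap A E))) := by
      rw [universallyInjective_iff_isNilpotent]
      intro e
      haveI : Algebra.IsIntegral E B := Algebra.IsIntegral.tower_top A
      exact isNilpotent_descend (A := A) (E := E) (B := B) Subtype.val_injective e
        ((mem_eqRed A B e.1).1 e.2)
    intro X' Y' i₁ i₂ f' h
    haveI : IsIntegralHom f' := MorphismProperty.of_isPullback h.flip inferInstance
    haveI : UniversallyInjective f' := MorphismProperty.of_isPullback h.flip inferInstance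
    haveI : Surjective f' := MorphismProperty.of_isPullback h.flip inferInstance
    exact isHomeomorph_iff_continuous_isClosedMap_bijective.mpr
      ⟨f'.continuous, f'.isClosedMap, f'.injective, f'.surjective⟩
  · have hu : UniversallyInjective (Spec.map (CommRingCat.ofHom (algebraMap A C))) :=
      ⟨fun X' Y' i₁ i₂ f' hf => (hC i₁ i₂ f' hf).injective⟩
    rw [universallyInjective_iff_isNilpotent] at hu
    rw [mem_eqRed]
    have := (hu ⟨c, hc⟩).map (Algebra.TensorProduct.map C.val C.val)
    simpa using this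

end

end Groth.Agent.WeakNorm
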