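import Groth.Agent.Tower.Geom
import Groth.Agent.EtaPt.UnivHomeo
import Groth.Prelude.Def_HTop2

/-!
When the residue fields have trivial purely inseparable closure the semi- and weak normalizations agree.
-/

set_option autoImplicit false
set_option linter.style.haveILetI false
set_option backward.isDefEq.respectTransparency false
universe u

namespace Groth.Agent.WeakNorm

open AlgebraicGeometry CategoryTheory

variable {A C : Type u} [CommRing A] [CommRing C] [Algebra A C]

theorem exists_mul_pow_expChar_sub_mem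
    (hu : FlatMor.IsUnivHomeo (Spec.map (CommRingCat.ofHom (algebraMap A C))))
    (Q : PrimeSpectrum C) (d : C) :
    ∃ (n : ℕ) (t a : A), algebraMap A C t ∉ Q.asIdeal ∧
      algebraMap A C t * d ^ (ringExpChar
        (PrimeSpectrum.comap (algebraMap A C) Q).asIdeal.ResidueField) ^ n -
        algebraMap A C a ∈ Q.asIdeal := by
  haveI : UniversallyInjective (Spec.map (CommRingCat.ofHom (algebraMap A C))) :=
    ⟨fun X' Y' i₁ i₂ f' hf => (hu i₁ i₂ f' hf).injective⟩
  have hiff : UniversallyInjective (Spec.map (CommRingCat.ofHom (algebraMap A C))) ↔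
      Function.Injective (Spec.map (CommRingCat.ofHom (algebraMap A C))) ∧ ∀ x,
        ((Spec.map (CommRingCat.ofHom (algebraMap A C))).residueFieldMap x).hom.IsPurelyInseparable :=
    (tfae_universallyInjective _).out 0 2
  have hpi := (hiff.mp inferInstance).2
  letI := ((Spec.map (CommRingCat.ofHom (algebraMap A C))).residueFieldMap Q).hom.toAlgebra
  haveI : IsPurelyInseparable _ _ := hpi Q
  set F := ((Spec (CommRingCat.of A)).residueField
    ((Spec.map (CommRingCat.ofHom (algebraMap A C))) Q) : Type u) with hF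
  let e : (PrimeSpectrum.comap (algebraMap A C) Q).asIdeal.ResidueField →+* F :=
    (Scheme.Spec.residueFieldIso (CommRingCat.of A) (PrimeSpectrum.comap (algebraMap A C) Q)).inv.hom
  haveI : ExpChar F (ringExpChar (PrimeSpectrum.comap (algebraMap A C) Q).asIdeal.ResidueField) :=
    expChar_of_injective_ringHom e.injective _
  obtain ⟨n, hn⟩ := IsPurelyInseparable.pow_mem F
    (ringExpChar (PrimeSpectrum.comap (algebraMap A C) Q).asIdeal.ResidueField)
    (Tower.res (Q : PrimeSpectrum C) d)
  obtain ⟨t, a, ht, hta⟩ := Tower.exists_mul_pow_sub_mem Q d _ hn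
  exact ⟨n, t, a, ht, hta⟩

theorem residueFieldsIso_of_pi_closure {B : Type u} [CommRing B] [Algebra A B] (C : Subalgebra A B)
    (hu : FlatMor.IsUnivHomeo (Spec.map (CommRingCat.ofHom (algebraMap A C))))
    (hpi : ∀ p : PrimeSpectrum A, ∃ q : PrimeSpectrum B,
      ∃ hq : p.asIdeal = Ideal.comap (algebraMap A B) q.asIdeal, ∀ x : q.asIdeal.ResidueField,
        (∃ n : ℕ, x ^ ringExpChar p.asIdeal.ResidueField ^ n ∈
          Set.range (Ideal.ResidueField.map p.asIdeal q.asIdeal (algebraMap A B) hq)) →
        x ∈ Set.range (Ideal.ResidueField.map p.asIdeal q.asIdeal (algebraMap A B) hq)) :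
    HTop.ResidueFieldsIso (Spec.map (CommRingCat.ofHom (algebraMap A C))) := by
  refine (EtaPtLib.residueFieldsIso_iff _).mpr fun Q => ⟨RingHom.injective _, ?_⟩
  set p := PrimeSpectrum.comap (algebraMap A C) Q with hp
  obtain ⟨q, hq, hx⟩ := hpi p
  have hqQ : Q.asIdeal = Ideal.comap C.val.toRingHom q.asIdeal := by
    have hb := (EtaPtLib.isIntegral_of_isUnivHomeo _ hu).2
    refine congrArg PrimeSpectrum.asIdeal (hb.1 (a₁ := Q)
      (a₂ := PrimeSpectrum.comap C.val.toRingHom q) (PrimeSpectrum.ext ?_))
    exact hq.trans rfl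
  let j := Ideal.ResidueField.map Q.asIdeal q.asIdeal C.val.toRingHom hqQ
  let r := Ideal.ResidueField.map p.asIdeal Q.asIdeal (algebraMap A C) rfl
  let rB := Ideal.ResidueField.map p.asIdeal q.asIdeal (algebraMap A B) hq
  have hjr : ∀ w, j (r w) = rB w := by
    have h : j.comp r = rB := EtaPtLib.residueField_hom_ext (RingHom.ext fun a => by
      simp only [RingHom.coe_comp, Function.comp_apply, j, r, rB, Ideal.ResidueField.map_algebraMap]
      rfl)
    exact RingHom.congr_fun h
  have hd : ∀ d : C, algebraMap C Q.asIdeal.ResidueField d ∈ r.fieldRange := fun d => by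
    obtain ⟨n, t, a, ht, hta⟩ := exists_mul_pow_expChar_sub_mem hu Q d
    set m := ringExpChar p.asIdeal.ResidueField ^ n
    have h0 : algebraMap C Q.asIdeal.ResidueField (algebraMap A C t) ≠ 0 := fun h =>
      ht (Ideal.algebraMap_residueField_eq_zero.mp h)
    have heq : algebraMap C Q.asIdeal.ResidueField d ^ m =
        r (algebraMap A _ a / algebraMap A _ t) := by
      rw [map_div₀]
      simp only [r, Ideal.ResidueField.map_algebraMap]
      rw [eq_div_iff h0, mul_comm, ← map_pow, ← map_mul, ← sub_eq_zero, ← map_sub]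
      exact Ideal.algebraMap_residueField_eq_zero.mpr hta
    obtain ⟨w, hw⟩ := hx (j (algebraMap C _ d)) ⟨n, _, by rw [← map_pow, heq, hjr]⟩
    exact ⟨w, j.injective ((hjr w).trans hw)⟩
  intro z
  obtain ⟨x, y, -, rfl⟩ := IsFractionRing.div_surjective (C ⧸ Q.asIdeal) z
  obtain ⟨x, rfl⟩ := Ideal.Quotient.mk_surjective x
  obtain ⟨y, rfl⟩ := Ideal.Quotient.mk_surjective y
  exact div_mem (hd x) (hd y)

end Groth.Agent.WeakNorm
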