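import Groth.Agent.WeakNorm.AwnNormal
import Groth.Agent.RedSepLib.Basic

/-!
Seminormal schemes have no nontrivial reduced seminormal-type universal homeomorphisms.
-/

set_option autoImplicit false
set_option linter.style.haveILetI false
set_option backward.isDefEq.respectTransparency false
universe u

namespace Groth.Agent.WeakNorm

open AlgebraicGeometry CategoryTheory CategoryTheory.Limits

section residue

variable {X Y Z : Scheme.{u}}

theorem residueFieldsIso_of_isOpenImmersion (f : X ⟶ Y) [IsOpenImmersion f] :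
    HTop.ResidueFieldsIso f := fun _ => inferInstance

theorem residueFieldsIso_of_isClosedImmersion (f : X ⟶ Y) [IsClosedImmersion f] :
    HTop.ResidueFieldsIso f := fun x => by
  rw [ConcreteCategory.isIso_iff_bijective]
  refine ⟨RingHom.injective _, fun z => ?_⟩
  obtain ⟨w, rfl⟩ := X.residue_surjective x z
  obtain ⟨v, rfl⟩ := f.stalkMap_surjective x w
  refine ⟨Y.residue (f x) v, ?_⟩
  exact ConcreteCategory.congr_hom (Scheme.residue_residueFieldMap f x) v

theorem residueFieldsIso_comp {f : X ⟶ Y} {g : Y ⟶ Z} (hf : HTop.ResidueFieldsIso f)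
    (hg : HTop.ResidueFieldsIso g) : HTop.ResidueFieldsIso (f ≫ g) := fun x => by
  haveI := hf x
  haveI := hg (f x)
  have he : (f ≫ g).residueFieldMap x = g.residueFieldMap (f x) ≫ f.residueFieldMap x :=
    Scheme.residueFieldMap_comp f g x
  rw [he]
  infer_instance

theorem residueFieldsIso_of_comp {f : X ⟶ Y} {g : Y ⟶ Z} (hg : HTop.ResidueFieldsIso g)
    (hc : HTop.ResidueFieldsIso (f ≫ g)) : HTop.ResidueFieldsIso f := fun x => by
  haveI := hg (f x)
  haveI := hc x
  have he : (f ≫ g).residueFieldMap x = g.residueFieldMap (f x) ≫ f.residueFieldMap x :=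
    Scheme.residueFieldMap_comp f g x
  haveI : IsIso (g.residueFieldMap (f x) ≫ f.residueFieldMap x) := he ▸ inferInstance
  exact IsIso.of_isIso_comp_left (g.residueFieldMap (f x)) (f.residueFieldMap x)

theorem residueFieldsIso_restrict {π : X ⟶ Y} (h : HTop.ResidueFieldsIso π) (U : Y.Opens) :
    HTop.ResidueFieldsIso (π ∣_ U) := by
  refine residueFieldsIso_of_comp (residueFieldsIso_of_isOpenImmersion U.ι) ?_
  rw [morphismRestrict_ι]
  exact residueFieldsIso_comp (residueFieldsIso_of_isOpenImmersion _) h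

end residue

theorem bijective_of_seminormal {A B : Type u} [CommRing A] [CommRing B] [_root_.IsReduced B]
    {ψ : A →+* B} (hA : HTop.IsSeminormalRing A) (hψ : UH ψ)
    (hr : HTop.ResidueFieldsIso (Spec.map (CommRingCat.ofHom ψ))) : Function.Bijective ψ := by
  haveI := isReduced_of_isSeminormalRing hA
  letI := ψ.toAlgebra
  have hinj : Function.Injective ψ := by
    rw [injective_iff_map_eq_zero]
    intro a ha
    refine IsNilpotent.eq_zero (nilpotent_iff_mem_prime.mpr fun P hP => ?_)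
    obtain ⟨Q, hQ⟩ := (EtaPtLib.isIntegral_of_isUnivHomeo ψ hψ).2.2 ⟨P, hP⟩
    have : a ∈ (PrimeSpectrum.comap ψ Q).asIdeal := by
      show ψ a ∈ Q.asIdeal
      rw [ha]; exact zero_mem _
    rwa [hQ] at this
  refine ⟨hinj, fun b => ?_⟩
  obtain ⟨l, hbl, hl⟩ := Tower.towers_of_isUnivHomeo_of_surjective (A := A) (B := B) hψ
    (fun x => by haveI := hr x; exact (ConcreteCategory.bijective_of_isIso _).2) {b}
  refine hl.gen_le Tower.sqCube_mono (⊥ : Subalgebra A B) (fun c hc => ?_) (hbl (by simp))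
  obtain ⟨⟨x, hx⟩, ⟨y, hy⟩⟩ := hc
  change ψ x = _ at hx
  change ψ y = _ at hy
  obtain ⟨a, ⟨h1, h2⟩, -⟩ := hA x y (hinj (by rw [map_pow, map_pow, hx, hy]; ring))
  refine ⟨a, eq_of_sq_eq_of_cube_eq ?_ ?_⟩
  · rw [← hx, h1, map_pow]; rfl
  · rw [← hy, h2, map_pow]; rfl

theorem isIso_of_isSeminormal {X Y : Scheme.{u}} (hX : HTop.IsSeminormal X) (π : Y ⟶ X)
    (hπ : FlatMor.IsUnivHomeo π) (hres : HTop.ResidueFieldsIso π) [IsReduced Y] : IsIso π := by
  obtain ⟨hi, hu, hs⟩ := (isUnivHomeo_iff π).mp hπ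
  haveI := hi
  refine (IsZariskiLocalAtTarget.iff_of_iSup_eq_top (P := MorphismProperty.isomorphisms Scheme)
    _ (iSup_affineOpens_eq_top X)).mpr fun ⟨U, hU⟩ => ?_
  show IsIso (π ∣_ U)
  haveI : IsAffine (π ⁻¹ᵁ U) := hU.preimage π
  haveI : IsAffine U := hU
  have e : Spec.map (π.app U) = (hU.preimage π).isoSpec.inv ≫ (π ∣_ U) ≫ hU.isoSpec.hom := by
    rw [Iso.eq_inv_comp]
    simp [IsAffineOpen.isoSpec_hom, Scheme.Hom.app_eq_appLE, Scheme.Hom.resLE_eq_morphismRestrict]
  have happ : UH (π.app U).hom := by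
    show FlatMor.IsUnivHomeo (Spec.map (π.app U))
    rw [e]
    refine isUnivHomeo_comp (isUnivHomeo_of_isIso _)
      (isUnivHomeo_comp ?_ (isUnivHomeo_of_isIso _))
    rw [isUnivHomeo_iff]
    exact ⟨inferInstance, IsZariskiLocalAtTarget.restrict hu _,
      IsZariskiLocalAtTarget.restrict hs _⟩
  have hr : HTop.ResidueFieldsIso (Spec.map (π.app U)) := by
    rw [e]
    exact residueFieldsIso_comp (residueFieldsIso_of_isOpenImmersion _)
      (residueFieldsIso_comp (residueFieldsIso_restrict hres U)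
        (residueFieldsIso_of_isOpenImmersion _))
  haveI : IsIso (π.app U) :=
    (ConcreteCategory.isIso_iff_bijective _).mpr
      (bijective_of_seminormal (isSeminormalRing_sections hX U) happ hr)
  haveI : IsIso ((hU.preimage π).isoSpec.inv ≫ (π ∣_ U) ≫ hU.isoSpec.hom) := by
    rw [← e]; infer_instance
  haveI := IsIso.of_isIso_comp_left (hU.preimage π).isoSpec.inv ((π ∣_ U) ≫ hU.isoSpec.hom)
  exact IsIso.of_isIso_comp_right (π ∣_ U) hU.isoSpec.hom

theorem isIso_of_isSeminormalization {X' X : Scheme.{u}} {ν : X' ⟶ X}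
    (hν : HTop.IsSeminormalization ν) (hX : HTop.IsSeminormal X) : IsIso ν := by
  haveI := RedSepLib.isReduced_subscheme_nilradical X'
  let i : X'.nilradical.subscheme ⟶ X' := X'.nilradical.subschemeι
  have hi : FlatMor.IsUnivHomeo i := by
    refine (isUnivHomeo_iff i).mpr ⟨inferInstance, inferInstance, ⟨Set.range_eq_univ.mp ?_⟩⟩
    rw [Scheme.IdealSheafData.range_subschemeι, Scheme.support_nilradical]
    rfl
  haveI := isIso_of_isSeminormal hX (i ≫ ν) (isUnivHomeo_comp hi hν.1.1)
    (residueFieldsIso_comp (residueFieldsIso_of_isClosedImmersion i) hν.1.2)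
  let s : X ⟶ X' := inv (i ≫ ν) ≫ i
  have hs : s ≫ ν = 𝟙 X := by simp [s]
  obtain ⟨a, -, ha⟩ := hν.2 _ ν hν.1.1 hν.1.2
  refine ⟨s, ?_, hs⟩
  rw [ha (ν ≫ s) (by show (ν ≫ s) ≫ ν = ν; rw [Category.assoc, hs, Category.comp_id]),
    ha (𝟙 _) (Category.id_comp ν)]

theorem isSeminormal_preimage {X : Scheme.{u}} (hX : HTop.IsSeminormal X) (U : X.Opens) :
    HTop.IsSeminormal U := fun y => by
  obtain ⟨W, hW, hWU, hyW, h'⟩ := exists_affine_seminormal hX U y.2
  refine ⟨⟨U.ι ⁻¹ᵁ W, hW.preimage_of_isOpenImmersion U.ι (by rwa [Scheme.Opens.opensRange_ι])⟩,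
    hyW, isSeminormalRing_of_ringEquiv ?_ h'⟩
  exact (X.presheaf.mapIso (eqToIso (by
    rw [Scheme.Hom.image_preimage_eq_opensRange_inf, Scheme.Opens.opensRange_ι]
    exact inf_eq_right.mpr hWU)).op ≪≫ U.ι.appIso _).commRingCatIsoToRingEquiv

theorem exists_lift_spec_field {X Y : Scheme.{u}} {π : Y ⟶ X} (hπ : HTop.ResidueFieldsIso π)
    {K : Type u} [Field K] (t : Spec (.of K) ⟶ X) {y : Y}
    (hy : π y = t (IsLocalRing.closedPoint K)) : ∃ l : Spec (.of K) ⟶ Y, l ≫ π = t := by
  obtain ⟨⟨u, φ⟩, rfl⟩ := (X.SpecToEquivOfField K).symm.surjective t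
  have hu : π y = u := by
    rw [hy, Scheme.SpecToEquivOfField_symm_apply, Scheme.Hom.comp_apply,
      Scheme.fromSpecResidueField_apply]
  subst hu
  haveI := hπ y
  refine ⟨Spec.map (inv (π.residueFieldMap y) ≫ φ) ≫ Y.fromSpecResidueField y, ?_⟩
  rw [Scheme.SpecToEquivOfField_symm_apply, Category.assoc,
    ← Scheme.Hom.SpecMap_residueFieldMap_fromSpecResidueField, ← Spec.map_comp_assoc,
    IsIso.hom_inv_id_assoc]

theorem residueFieldsIso_pullback_snd {X X' Y : Scheme.{u}} (π : Y ⟶ X) (f : X' ⟶ X)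
    (hπ : HTop.ResidueFieldsIso π) [UniversallyInjective π] :
    HTop.ResidueFieldsIso (pullback.snd π f) := fun z => by
  let x := pullback.snd π f z
  obtain ⟨l, hl⟩ := exists_lift_spec_field hπ (X'.fromSpecResidueField x ≫ f)
    (y := pullback.fst π f z) (by
      refine Eq.trans ?_ (congrArg f (X'.fromSpecResidueField_apply x _)).symm
      show π (pullback.fst π f z) = f (pullback.snd π f z)
      rw [← Scheme.Hom.comp_apply, pullback.condition, Scheme.Hom.comp_apply])
  let s : Spec (.of (X'.residueField x)) ⟶ pullback π f :=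
    pullback.lift l (X'.fromSpecResidueField x) hl
  obtain ⟨⟨z', φ⟩, hzφ⟩ := ((pullback π f).SpecToEquivOfField (X'.residueField x)).symm.surjective s
  have hs : s ≫ pullback.snd π f = X'.fromSpecResidueField x := pullback.lift_snd _ _ _
  rw [← hzφ, Scheme.SpecToEquivOfField_symm_apply, Category.assoc] at hs
  haveI : UniversallyInjective (pullback.snd π f) := MorphismProperty.pullback_snd _ _ inferInstance
  have hz : z' = z := (pullback.snd π f).injective (by
    have := congrArg (fun m => m.base (IsLocalRing.closedPoint (X'.residueField x))) hs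
    refine Eq.trans ?_ (this.trans (X'.fromSpecResidueField_apply x _))
    simp)
  subst hz
  have h1 : (pullback.snd π f).residueFieldMap z' ≫ φ = 𝟙 _ := by
    apply Spec.map_injective
    rw [Spec.map_id, Spec.map_comp, ← cancel_mono (X'.fromSpecResidueField x), Category.assoc,
      Scheme.Hom.SpecMap_residueFieldMap_fromSpecResidueField, hs]
    exact (Category.id_comp _).symm
  rw [ConcreteCategory.isIso_iff_bijective]
  refine ⟨RingHom.injective _, fun w => ⟨φ w, ?_⟩⟩
  refine φ.hom.injective ?_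
  exact ConcreteCategory.congr_hom h1 (φ w)

theorem isSeminormalization_restrict {X' X : Scheme.{u}} {ν : X' ⟶ X}
    (hν : HTop.IsSeminormalization ν) (hX' : HTop.IsSeminormal X') (U : X.Opens) :
    HTop.IsSeminormalization (ν ∣_ U) := by
  obtain ⟨hi, hu, hs⟩ := (isUnivHomeo_iff ν).mp hν.1.1
  haveI := hi
  have hUH : FlatMor.IsUnivHomeo (ν ∣_ U) := (isUnivHomeo_iff _).mpr
    ⟨inferInstance, IsZariskiLocalAtTarget.restrict hu _, IsZariskiLocalAtTarget.restrict hs _⟩
  have hres := residueFieldsIso_restrict hν.1.2 U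
  have hsn : HTop.IsSeminormal (ν ⁻¹ᵁ U) := isSeminormal_preimage hX' _
  haveI := isReduced_of_isSeminormal hsn
  refine ⟨⟨hUH, hres⟩, fun Y π hπ hπr => ?_⟩
  obtain ⟨hi', hu', hs'⟩ := (isUnivHomeo_iff π).mp hπ
  haveI := hi'
  haveI := hu'
  haveI := RedSepLib.isReduced_subscheme_nilradical (pullback π (ν ∣_ U))
  let i := (pullback π (ν ∣_ U)).nilradical.subschemeι
  have hi₀ : FlatMor.IsUnivHomeo i := by
    refine (isUnivHomeo_iff i).mpr ⟨inferInstance, inferInstance, ⟨Set.range_eq_univ.mp ?_⟩⟩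
    rw [Scheme.IdealSheafData.range_subschemeι, Scheme.support_nilradical]
    rfl
  haveI := isIso_of_isSeminormal hsn (i ≫ pullback.snd π (ν ∣_ U))
    (isUnivHomeo_comp hi₀
      (isUnivHomeo_of_isPullback (IsPullback.of_hasPullback π (ν ∣_ U)).flip hπ))
    (residueFieldsIso_comp (residueFieldsIso_of_isClosedImmersion i)
      (residueFieldsIso_pullback_snd π _ hπr))
  refine ⟨inv (i ≫ pullback.snd π (ν ∣_ U)) ≫ i ≫ pullback.fst π (ν ∣_ U), ?_, fun g hg => ?_⟩
  · simp only [Category.assoc, pullback.condition]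
    rw [IsIso.inv_comp_eq]
    simp
  · apply hom_ext_of_universallyInjective π
    rw [hg]
    simp only [Category.assoc, pullback.condition]
    symm
    rw [IsIso.inv_comp_eq]
    simp

end Groth.Agent.WeakNorm
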