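import Groth.Agent.WeakNorm.AwnRing
import Mathlib.FieldTheory.PerfectClosure
import Mathlib.RingTheory.IntegralClosure.IntegrallyClosed

/-!
Absolute weak normalization in characteristic `p`.
-/

set_option autoImplicit false
set_option linter.style.haveILetI false
universe u

namespace Groth.Agent.WeakNorm

open AlgebraicGeometry CategoryTheory
open scoped TensorProduct

variable {A : Type u} [CommRing A]

theorem bijective_of_uh_of_closed [_root_.IsReduced A] {B : Type u} [CommRing B]
    [_root_.IsReduced B] [Algebra A B] (hψ : UH (algebraMap A B))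
    (hcl : ∀ b : B, Tower.SqCubeOrPrime (A := A) b (⊥ : Subalgebra A B) →
      b ∈ (⊥ : Subalgebra A B)) : Function.Bijective (algebraMap A B) := by
  refine ⟨?_, fun b => ?_⟩
  · rw [injective_iff_map_eq_zero]
    intro a ha
    refine IsNilpotent.eq_zero (nilpotent_iff_mem_prime.mpr fun P hP => ?_)
    obtain ⟨Q, hQ⟩ := (EtaPtLib.isIntegral_of_isUnivHomeo _ hψ).2.2 ⟨P, hP⟩
    have : a ∈ (PrimeSpectrum.comap (algebraMap A B) Q).asIdeal := by
      show algebraMap A B a ∈ Q.asIdeal
      rw [ha]; exact zero_mem _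
    rwa [hQ] at this
  · obtain ⟨l, hbl, hl⟩ := Tower.towers_of_isUnivHomeo (A := A) (B := B) hψ {b}
    exact hl.gen_le Tower.sqCubeOrPrime_mono ⊥ hcl (hbl (by simp))

theorem natCast_self_eq_zero_of_algebra (p : ℕ) [Algebra (ZMod p) A] : (p : A) = 0 := by
  rw [← map_natCast (algebraMap (ZMod p) A), ZMod.natCast_self, map_zero]

theorem isAWNRing_of_perfect {p : ℕ} (hp : p.Prime) (hp0 : (p : A) = 0) [PerfectRing A p] :
    HTop.IsAWNRing A := by
  rcases subsingleton_or_nontrivial A with hA | hA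
  · exact ⟨fun x y _ => ⟨0, ⟨Subsingleton.elim _ _, Subsingleton.elim _ _⟩,
      fun _ _ => Subsingleton.elim _ _⟩, fun _ _ x y _ => ⟨0, ⟨Subsingleton.elim _ _,
      Subsingleton.elim _ _⟩, fun _ _ => Subsingleton.elim _ _⟩⟩
  haveI := Fact.mk hp
  haveI : CharP A p := (CharP.charP_iff_prime_eq_zero hp).mpr hp0
  haveI : ExpChar A p := ExpChar.prime hp
  haveI : _root_.IsReduced A := (isReduced_iff_pow_one_lt p hp.one_lt).mpr fun x hx =>
    (PerfectRing.bijective_frobenius (p := p)).1 (by simpa [zero_pow hp.pos.ne'] using hx)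
  rw [isAWNRing_iff_bijective]
  refine bijective_of_uh_of_closed (uh_awn A) fun b hb => ?_
  have hroot : b ^ p ∈ (⊥ : Subalgebra A (awn A)) → b ∈ (⊥ : Subalgebra A (awn A)) := by
    rintro ⟨a, ha⟩
    change algebraMap A (awn A) a = _ at ha
    obtain ⟨c, rfl⟩ := (PerfectRing.bijective_frobenius (p := p)).2 a
    refine ⟨c, eq_of_mul_eq_of_pow_eq hp ?_ (by rw [← ha, map_pow]; rfl)⟩
    rw [← map_natCast (algebraMap A (awn A)) p, hp0, map_zero, zero_mul, zero_mul]
  rcases hb with ⟨h2, h3⟩ | ⟨q, hq, h1, h2⟩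
  · refine hroot ?_
    have : ∀ n, 2 ≤ n → b ^ n ∈ (⊥ : Subalgebra A (awn A)) := by
      intro n hn
      induction n using Nat.strong_induction_on with
      | _ n ih =>
        rcases lt_or_ge n 4 with h | h
        · interval_cases n
          exacts [h2, h3]
        · rw [show n = (n - 2) + 2 by omega, pow_add]
          exact Subalgebra.mul_mem _ (ih (n - 2) (by omega) (by omega)) h2
    exact this p hp.two_le
  · by_cases hqp : q = p
    · exact hroot (hqp ▸ h2)
    · obtain ⟨u, hu⟩ : IsUnit (q : A) :=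
        (CharP.isUnit_natCast_iff (R := A) hp).mpr fun h =>
          hqp ((hq.eq_one_or_self_of_dvd p h).resolve_left hp.one_lt.ne').symm
      have := Subalgebra.mul_mem _ (Subalgebra.algebraMap_mem (⊥ : Subalgebra A (awn A))
        (↑(u⁻¹) : A)) h1
      rwa [← map_natCast (algebraMap A (awn A)) q, ← hu, ← mul_assoc, ← map_mul, Units.inv_mul,
        map_one, one_mul] at this

theorem isAWNRing_iff_perfectRing {p : ℕ} (hp : p.Prime) (hp0 : (p : A) = 0) :
    HTop.IsAWNRing A ↔ PerfectRing A p := by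
  refine ⟨fun h => ⟨fun x y hxy => ?_, fun x => ?_⟩, fun _ => isAWNRing_of_perfect hp hp0⟩
  · exact (h.2 p hp (x ^ p) 0 (by rw [hp0, zero_pow hp.pos.ne', zero_mul])).unique
      ⟨rfl, by rw [hp0, zero_mul]⟩ ⟨hxy, by rw [hp0, zero_mul]⟩
  · obtain ⟨a, ha, -⟩ := h.2 p hp x 0 (by rw [hp0, zero_pow hp.pos.ne', zero_mul])
    exact ⟨a, ha.1.symm⟩

theorem isRingAWN_of_uh_of_isAWNRing {W : Type u} [CommRing W] {φ : A →+* W} (hφ : UH φ)
    (hW : HTop.IsAWNRing W) : HTop.IsRingAWN φ := by
  obtain ⟨χ, hχ, -⟩ := (isRingAWN_awn A).2 W φ hφ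
  have hb := (comparison_bijective_iff (isRingAWN_awn A) hφ hχ).mpr hW
  let e := RingEquiv.ofBijective χ hb
  refine ⟨hφ, fun C _ ψ hψ => ?_⟩
  haveI := isReduced_of_isSeminormalRing hW.1
  obtain ⟨h, hh, -⟩ := (isRingAWN_awn A).2 C ψ hψ
  refine ⟨e.symm.toRingHom.comp h, RingHom.ext fun a => ?_, fun g hg => ?_⟩
  · show e.symm (h (ψ a)) = φ a
    rw [RingEquiv.symm_apply_eq]
    exact (RingHom.congr_fun hh a).trans (RingHom.congr_fun hχ a).symm
  · refine UH.hom_ext hψ ?_
    rw [hg]
    refine RingHom.ext fun a => ?_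
    show _ = e.symm (h (ψ a))
    rw [eq_comm, RingEquiv.symm_apply_eq]
    exact (RingHom.congr_fun hh a).trans (RingHom.congr_fun hχ a).symm

theorem isRingAWN_perfectClosure (p : ℕ) [Fact p.Prime] [CharP A p] :
    HTop.IsRingAWN (PerfectClosure.of A p) := by
  have hp : p.Prime := Fact.out
  refine isRingAWN_of_uh_of_isAWNRing ?_ (isAWNRing_of_perfect hp (CharP.cast_eq_zero _ p))
  letI := (PerfectClosure.of A p).toAlgebra
  have hpow : ∀ s : PerfectClosure A p, ∃ n a, s ^ p ^ n = algebraMap A (PerfectClosure A p) a := by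
    intro s
    obtain ⟨⟨n, a⟩, rfl⟩ := PerfectClosure.mk_surjective A p s
    refine ⟨n, a, ?_⟩
    show _ = PerfectClosure.of A p a
    rw [PerfectClosure.of_apply, PerfectClosure.mk_pow, PerfectClosure.mk_eq_iff]
    refine ⟨0, ?_⟩
    simp [iterate_frobenius]
  have hint : Algebra.IsIntegral A (PerfectClosure A p) := ⟨fun s => by
    obtain ⟨n, a, h⟩ := hpow s
    exact IsIntegral.of_pow (pow_pos hp.pos n) (h ▸ isIntegral_algebraMap)⟩
  refine (uh_iff (A := A) (B := PerfectClosure A p)).mpr ⟨hint, fun s => ?_, fun P => ?_⟩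
  · obtain ⟨n, a, h⟩ := hpow s
    rw [nilpotent_iff_mem_prime]
    intro Q hQ
    refine Ideal.algebraMap_residueField_eq_zero.mp ?_
    let π : PerfectClosure A p ⊗[A] PerfectClosure A p →+* Q.ResidueField := algebraMap _ _
    haveI : CharP Q.ResidueField p := (CharP.charP_iff_prime_eq_zero hp).mpr (by
      rw [← map_natCast (π.comp (algebraMap A (PerfectClosure A p ⊗[A] PerfectClosure A p))),
        CharP.cast_eq_zero, map_zero])
    haveI : ExpChar Q.ResidueField p := ExpChar.prime hp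
    show π _ = 0
    rw [map_sub, sub_eq_zero]
    refine iterateFrobenius_inj Q.ResidueField p n ?_
    simp only [iterateFrobenius_def, ← map_pow]
    congr 1
    rw [Algebra.TensorProduct.tmul_pow, Algebra.TensorProduct.tmul_pow, one_pow, h,
      ← Algebra.TensorProduct.algebraMap_apply]
    exact (Algebra.TensorProduct.includeRight.commutes a).symm
  · have hker : ∀ x : A, algebraMap A (PerfectClosure A p) x = 0 → x ∈ P.asIdeal := fun x hx => by
      change PerfectClosure.of A p x = 0 at hx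
      rw [PerfectClosure.of_apply, ← PerfectClosure.mk_zero_right A p 0,
        PerfectClosure.mk_eq_iff] at hx
      obtain ⟨z, hz⟩ := hx
      simp only [iterate_frobenius, zero_add, zero_pow (pow_pos hp.pos z).ne'] at hz
      exact P.2.mem_of_pow_mem _ (hz ▸ zero_mem _)
    obtain ⟨Q, -, hQ, hQP⟩ := Ideal.exists_ideal_over_prime_of_isIntegral (S := PerfectClosure A p)
      P.asIdeal ⊥ (fun x hx => hker x hx)
    exact ⟨⟨Q, hQ⟩, PrimeSpectrum.ext hQP⟩

theorem isSeminormalRing_of_isIntegrallyClosed (A : Type u) [CommRing A] [IsDomain A]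
    [IsIntegrallyClosed A] : HTop.IsSeminormalRing A := by
  intro x y hxy
  haveI : _root_.IsReduced A := inferInstance
  by_cases hx : x = 0
  · subst hx
    have hy : y = 0 := (pow_eq_zero_iff two_ne_zero).mp (by rw [← hxy]; simp)
    subst hy
    exact ⟨0, ⟨by simp, by simp⟩, fun b hb => (pow_eq_zero_iff two_ne_zero).mp hb.1.symm⟩
  · let K := FractionRing A
    set X := algebraMap A K x with hX
    set Y := algebraMap A K y with hY
    have hX0 : X ≠ 0 := by simpa [hX] using hx
    have h : X ^ 3 = Y ^ 2 := by rw [hX, hY, ← map_pow, ← map_pow, hxy]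
    have h2 : (Y / X) ^ 2 = X := by
      rw [div_pow, div_eq_iff (pow_ne_zero 2 hX0)]
      linear_combination -h
    obtain ⟨a, ha⟩ := IsIntegrallyClosed.isIntegral_iff.mp
      (IsIntegral.of_pow two_pos (by rw [h2]; exact isIntegral_algebraMap) : IsIntegral A (Y / X))
    have e2 : x = a ^ 2 := IsFractionRing.injective A K (by rw [map_pow, ha, h2])
    have e3 : y = a ^ 3 := IsFractionRing.injective A K (by
      rw [map_pow, ha, ← hY]; rw [div_pow, eq_div_iff (pow_ne_zero 3 hX0)]; linear_combination Y * h)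
    exact ⟨a, ⟨e2, e3⟩, fun b hb =>
      eq_of_sq_eq_of_cube_eq (hb.1.symm.trans e2) (hb.2.symm.trans e3)⟩

end Groth.Agent.WeakNorm
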