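import Groth.Agent.WeakNorm.Basic
import Groth.Agent.EtaPt.UnivHomeo
import Groth.Prelude.Def_HTop2

/-!
Existence of the absolute weak normalization of a ring, inside a product of algebraically closed fields.
-/

set_option autoImplicit false
set_option linter.style.haveILetI false
universe u

namespace Groth.Agent.WeakNorm

open AlgebraicGeometry CategoryTheory
open scoped TensorProduct

/-- the product of the geometric points -/
abbrev GeomProd (A : Type u) [CommRing A] : Type u :=
  ∀ p : PrimeSpectrum A, AlgebraicClosure p.asIdeal.ResidueField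

/-- subalgebras which are integral and universally injective over the base -/
def Good (A : Type u) [CommRing A] (S : Subalgebra A (GeomProd A)) : Prop :=
  Algebra.IsIntegral A S ∧ ∀ s : S, IsNilpotent (s ⊗ₜ[A] (1 : S) - (1 : S) ⊗ₜ[A] s)

variable (A : Type u) [CommRing A]

/-- the absolute weak normalization -/
noncomputable def awn : Subalgebra A (GeomProd A) := sSup {S | Good A S}

lemma algebraMap_geom (p : PrimeSpectrum A) (a : A) :
    algebraMap A (AlgebraicClosure p.asIdeal.ResidueField) a = 0 ↔ a ∈ p.asIdeal := by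
  rw [IsScalarTower.algebraMap_apply A p.asIdeal.ResidueField (AlgebraicClosure p.asIdeal.ResidueField)]
  rw [map_eq_zero, Ideal.algebraMap_residueField_eq_zero]

lemma good_awn : Good A (awn A) := by
  have hint : Algebra.IsIntegral A (awn A) := by
    have hle : awn A ≤ integralClosure A (GeomProd A) := sSup_le fun S hS x hx =>
      haveI := hS.1
      (Algebra.IsIntegral.isIntegral (⟨x, hx⟩ : S)).map S.val
    exact ⟨fun x => (isIntegral_algHom_iff (awn A).val Subtype.val_injective).1 (hle x.2)⟩
  refine ⟨hint, fun s => ?_⟩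
  have h : awn A ≤ (eqRed A (awn A)).map (awn A).val := sSup_le fun S hS x hx => by
    have hle : S ≤ awn A := le_sSup hS
    refine ⟨⟨x, hle hx⟩, (mem_eqRed A (awn A) _).2 ?_, rfl⟩
    have := (hS.2 ⟨x, hx⟩).map (Algebra.TensorProduct.map (Subalgebra.inclusion hle) (Subalgebra.inclusion hle))
    rw [map_sub, Algebra.TensorProduct.map_tmul, Algebra.TensorProduct.map_tmul, map_one] at this
    exact this
  obtain ⟨t, ht, hts⟩ := h s.2
  obtain rfl : t = s := Subtype.ext hts
  exact (mem_eqRed A (awn A) _).1 ht

theorem isRingAWN_awn : HTop.IsRingAWN (algebraMap A (awn A)) := by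
  obtain ⟨hint, hnil⟩ := good_awn A
  refine ⟨?_, fun C _ ψ hψ => ?_⟩
  · haveI := hint
    haveI : IsIntegralHom (Spec.map (CommRingCat.ofHom (algebraMap A (awn A)))) :=
      IsIntegralHom.SpecMap_iff.2 (algebraMap_isIntegral_iff.2 inferInstance)
    haveI : UniversallyInjective (Spec.map (CommRingCat.ofHom (algebraMap A (awn A)))) :=
      (universallyInjective_iff_isNilpotent A (awn A)).2 hnil
    haveI : Surjective (Spec.map (CommRingCat.ofHom (algebraMap A (awn A)))) := ⟨fun p => by
      let ev : awn A →+* AlgebraicClosure p.asIdeal.ResidueField :=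
        (Pi.evalRingHom _ p).comp (awn A).val.toRingHom
      exact ⟨⟨RingHom.ker ev, RingHom.ker_isPrime ev⟩,
        PrimeSpectrum.ext (Ideal.ext fun a => algebraMap_geom A p a)⟩⟩
    exact EtaPtLib.isUnivHomeo_of_isIntegralHom _
  obtain ⟨hi, hbij⟩ := EtaPtLib.isIntegral_of_isUnivHomeo ψ hψ
  letI := ψ.toAlgebra
  haveI : Algebra.IsIntegral A C := algebraMap_isIntegral_iff.1 hi
  have hu : UniversallyInjective (Spec.map (CommRingCat.ofHom (algebraMap A C))) :=
    ⟨fun X' Y' i₁ i₂ f' hf => (hψ i₁ i₂ f' hf).injective⟩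
  rw [universallyInjective_iff_isNilpotent] at hu
  have hex : ∀ p : PrimeSpectrum A, ∃ f : C →+* AlgebraicClosure p.asIdeal.ResidueField,
      ∀ a, f (algebraMap A C a) = algebraMap A _ a := fun p => by
    obtain ⟨q, hq⟩ := hbij.2 p
    haveI : q.asIdeal.LiesOver (RingHom.ker (algebraMap A (AlgebraicClosure p.asIdeal.ResidueField))) :=
      ⟨Ideal.ext fun a => (algebraMap_geom A p a).trans (by rw [← hq]; rfl)⟩
    exact exists_lift_of_liesOver _ q.asIdeal
  choose f hf using hex
  let χ : C →ₐ[A] GeomProd A :=
    { toRingHom := RingHom.pi f, commutes' := fun a => funext fun p => hf p a }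
  have hgood : Good A χ.range := by
    refine ⟨Algebra.IsIntegral.of_surjective χ.rangeRestrict χ.rangeRestrict_surjective, fun s => ?_⟩
    obtain ⟨c, rfl⟩ := χ.rangeRestrict_surjective s
    have := (hu c).map (Algebra.TensorProduct.map χ.rangeRestrict χ.rangeRestrict)
    rw [map_sub, Algebra.TensorProduct.map_tmul, Algebra.TensorProduct.map_tmul, map_one] at this
    exact this
  let χ' : C →ₐ[A] awn A := (Subalgebra.inclusion (le_sSup hgood)).comp χ.rangeRestrict
  refine ⟨χ'.toRingHom, RingHom.ext χ'.commutes, fun χ₂ h₂ => RingHom.ext fun c => Subtype.ext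
    (funext fun p => ?_)⟩
  let π : awn A →ₐ[A] AlgebraicClosure p.asIdeal.ResidueField :=
    (Pi.evalAlgHom A (fun q : PrimeSpectrum A => AlgebraicClosure q.asIdeal.ResidueField) p).comp
      (awn A).val
  let χ₂' : C →ₐ[A] awn A := { χ₂ with commutes' := fun a => RingHom.congr_fun h₂ a }
  have h0 := ((hu c).map (Algebra.TensorProduct.lift (π.comp χ₂') (π.comp χ')
    (fun _ _ => Commute.all _ _))).eq_zero
  rw [map_sub, Algebra.TensorProduct.lift_tmul, Algebra.TensorProduct.lift_tmul, map_one, map_one,
    mul_one, one_mul, sub_eq_zero] at h0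
  exact h0

end Groth.Agent.WeakNorm
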