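import Groth.Agent.WeakNorm.AwnLoc
import Mathlib.AlgebraicGeometry.Sites.SmallAffineZariski

/-!
The absolute weak normalization of a scheme.
-/

set_option autoImplicit false
set_option linter.style.haveILetI false
set_option backward.isDefEq.respectTransparency false
universe u

namespace Groth.Agent.WeakNorm

open AlgebraicGeometry CategoryTheory CategoryTheory.Limits
open Scheme.AffineZariskiSite

variable (X : Scheme.{u})

/-- The presheaf of absolute weak normalizations on affine opens. -/
noncomputable def awnDiagram : X.AffineZariskiSiteᵒᵖ ⥤ CommRingCat.{u} where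
  obj U := CommRingCat.of (awn Γ(X, U.unop.1))
  map {U V} i := CommRingCat.ofHom (awnMap (X.presheaf.map ((toOpensFunctor X).map i.unop).op).hom)
  map_id U := by
    refine CommRingCat.hom_ext ((uh_awn _).hom_ext ?_)
    show (awnMap _).comp _ = _
    rw [awnMap_comp_algebraMap]
    simp
    exact RingHom.comp_id _
  map_comp {U V W} i j := by
    refine CommRingCat.hom_ext ((uh_awn _).hom_ext ?_)
    show (awnMap _).comp _ = ((awnMap _).comp (awnMap _)).comp _
    rw [← awnMap_comp]
    simp only [unop_comp, Functor.map_comp, op_comp, CommRingCat.hom_comp]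

/-- The structure map. -/
noncomputable def awnDiagramMap : (toOpensFunctor X).op ⋙ X.presheaf ⟶ awnDiagram X where
  app U := CommRingCat.ofHom (algebraMap Γ(X, U.unop.1) (awn Γ(X, U.unop.1)))
  naturality {U V} i := CommRingCat.hom_ext (awnMap_comp_algebraMap _).symm

theorem coequifibered_awnDiagramMap : (awnDiagramMap X).Coequifibered := by
  refine coequifibered_iff_forall_isLocalizationAway.mpr fun U r => ?_
  letI : Algebra Γ(X, U.1) Γ(X, X.basicOpen r) :=
    (X.presheaf.map (homOfLE (X.basicOpen_le r)).op).hom.toAlgebra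
  haveI : IsLocalization.Away r Γ(X, X.basicOpen r) := U.2.isLocalization_basicOpen r
  exact isLocalization_awnMap (A := Γ(X, U.1)) (A' := Γ(X, X.basicOpen r)) r

/-- The gluing datum. -/
noncomputable def awnGlueData :=
  relativeGluingData (coequifibered_awnDiagramMap X)

instance : ((awnGlueData X).functor ⋙ Scheme.forget).IsLocallyDirected :=
  Scheme.Cover.RelativeGluingData.instIsLocallyDirectedI₀CompFunctorForgetOfIsThin ..

theorem uh_natTrans_app (U : X.AffineZariskiSite) :
    FlatMor.IsUnivHomeo ((awnGlueData X).natTrans.app U) := by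
  refine isUnivHomeo_comp ?_ (isUnivHomeo_of_isIso _)
  exact uh_awn _

theorem uh_toBase : FlatMor.IsUnivHomeo (awnGlueData X).toBase := by
  rw [isUnivHomeo_iff]
  have h := fun U : X.AffineZariskiSite => (isUnivHomeo_iff _).mp (uh_natTrans_app X U)
  have hp := fun U : X.AffineZariskiSite =>
    ((awnGlueData X).isPullback_natTrans_ι_toBase U).flip
  refine ⟨?_, ?_, ?_⟩
  · refine (IsZariskiLocalAtTarget.iff_of_openCover (P := @IsIntegralHom)
      (directedCover X)).mpr fun U => ?_
    exact ((MorphismProperty.arrow_mk_iso_iff @IsIntegralHom (Arrow.isoMk ((hp U).isoPullback) (Iso.refl _)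
      (by simp [Scheme.Cover.pullbackHom])))).mp (h U).1
  · refine (IsZariskiLocalAtTarget.iff_of_openCover (P := @UniversallyInjective)
      (directedCover X)).mpr fun U => ?_
    exact ((MorphismProperty.arrow_mk_iso_iff @UniversallyInjective (Arrow.isoMk ((hp U).isoPullback) (Iso.refl _)
      (by simp [Scheme.Cover.pullbackHom])))).mp (h U).2.1
  · refine (IsZariskiLocalAtTarget.iff_of_openCover (P := @Surjective)
      (directedCover X)).mpr fun U => ?_
    exact ((MorphismProperty.arrow_mk_iso_iff @Surjective (Arrow.isoMk ((hp U).isoPullback) (Iso.refl _)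
      (by simp [Scheme.Cover.pullbackHom])))).mp (h U).2.2

instance (U : X.AffineZariskiSite) : IsReduced ((awnGlueData X).functor.obj U) :=
  inferInstanceAs (IsReduced (Spec (CommRingCat.of (awn Γ(X, U.1)))))

variable {X}

theorem exists_lift_over {Y : Scheme.{u}} (π : Y ⟶ X) (hπ : FlatMor.IsUnivHomeo π)
    (U : X.AffineZariskiSite) :
    ∃ h : (awnGlueData X).functor.obj U ⟶ Y,
      h ≫ π = (awnGlueData X).natTrans.app U ≫ (directedCover X).f U := by
  obtain ⟨hi, hu, hs⟩ := (isUnivHomeo_iff π).mp hπ
  haveI := hi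
  haveI : IsAffine (π ⁻¹ᵁ U.1) := (U.2.preimage π)
  haveI : IsAffine U.1 := U.2
  have hres : FlatMor.IsUnivHomeo (π ∣_ U.1) := by
    rw [isUnivHomeo_iff]
    exact ⟨inferInstance, IsZariskiLocalAtTarget.restrict hu _,
      IsZariskiLocalAtTarget.restrict hs _⟩
  have happ : UH (π.app U.1).hom := by
    have e : Spec.map (π.app U.1) =
        (U.2.preimage π).isoSpec.inv ≫ (π ∣_ U.1) ≫ U.2.isoSpec.hom := by
      rw [Iso.eq_inv_comp]
      simp [IsAffineOpen.isoSpec_hom, Scheme.Hom.app_eq_appLE, Scheme.Hom.resLE_eq_morphismRestrict]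
    show FlatMor.IsUnivHomeo (Spec.map (π.app U.1))
    rw [e]
    exact isUnivHomeo_comp (isUnivHomeo_of_isIso _) (isUnivHomeo_comp hres (isUnivHomeo_of_isIso _))
  obtain ⟨χ, hχ, -⟩ := (isRingAWN_awn Γ(X, U.1)).2 _ _ happ
  refine ⟨Spec.map (CommRingCat.ofHom χ) ≫ (U.2.preimage π).fromSpec, ?_⟩
  have h1 : (U.2.preimage π).fromSpec ≫ π = Spec.map (π.app U.1) ≫ U.2.fromSpec := by
    rw [Scheme.Hom.app_eq_appLE]
    exact (U.2.SpecMap_appLE_fromSpec π (U.2.preimage π) le_rfl).symm
  rw [Category.assoc, h1, ← Spec.map_comp_assoc]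
  show _ = (Spec.map ((awnDiagramMap X).app (.op U)) ≫ U.2.isoSpec.inv) ≫ U.1.ι
  rw [Category.assoc, U.2.isoSpec_inv_ι]
  congr 2
  exact CommRingCat.hom_ext hχ

variable (X)

theorem isAWNormalization_toBase : HTop.IsAWNormalization (awnGlueData X).toBase := by
  refine ⟨uh_toBase X, fun Y π hπ => ?_⟩
  obtain ⟨hi, hu, hs⟩ := (isUnivHomeo_iff π).mp hπ
  haveI := hi
  haveI := hu
  choose h hh using exists_lift_over π hπ
  have hnat : ∀ (U V : X.AffineZariskiSite) (i : U ⟶ V),
      (awnGlueData X).functor.map i ≫ h V = h U := fun U V i => by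
    apply hom_ext_of_universallyInjective π
    rw [Category.assoc, hh, hh, ← Category.assoc, (awnGlueData X).natTrans.naturality, Category.assoc]
    congr 1
    exact (directedCover X).trans_map i
  refine ⟨colimit.desc (awnGlueData X).functor
    { pt := Y, ι := { app := h, naturality := fun U V i => by simpa using hnat U V i } }, ?_, ?_⟩
  · refine colimit.hom_ext fun U => ?_
    rw [colimit.ι_desc_assoc, Scheme.Cover.RelativeGluingData.ι_toBase]
    exact hh U
  · intro g hg
    refine colimit.hom_ext fun U => ?_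
    apply hom_ext_of_universallyInjective π
    rw [colimit.ι_desc, Category.assoc, hg, Scheme.Cover.RelativeGluingData.ι_toBase]
    exact (hh U).symm

end Groth.Agent.WeakNorm
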