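import Groth.Agent.WeakNorm.AwnLoc
import Groth.Agent.Tower.Geom
import Mathlib.Tactic.LinearCombination

/-!
Absolutely weakly normal rings are those equal to their absolute weak normalization.
-/

set_option autoImplicit false
set_option linter.style.haveILetI false
universe u

namespace Groth.Agent.WeakNorm

open AlgebraicGeometry CategoryTheory
open scoped TensorProduct

section basic

variable {A B : Type u} [CommRing A] [CommRing B]

theorem isReduced_of_isSeminormalRing (h : HTop.IsSeminormalRing A) : _root_.IsReduced A := by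
  refine (isReduced_iff_pow_one_lt 2 (by norm_num)).mpr fun x hx => ?_
  exact (h 0 0 (by ring)).unique ⟨hx.symm, by rw [pow_succ, hx, zero_mul]⟩ ⟨by ring, by ring⟩

theorem eq_of_sq_eq_of_cube_eq [_root_.IsReduced A] {u v : A} (h2 : u ^ 2 = v ^ 2)
    (h3 : u ^ 3 = v ^ 3) : u = v := by
  refine sub_eq_zero.mp (IsNilpotent.eq_zero ⟨3, ?_⟩)
  linear_combination (4 : A) * h3 + (-3 * v - 3 * u) * h2

theorem eq_of_mul_eq_of_pow_eq [_root_.IsReduced A] {p : ℕ} (hp : p.Prime) {u v : A}
    (h1 : (p : A) * u = (p : A) * v) (h2 : u ^ p = v ^ p) : u = v := by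
  refine sub_eq_zero.mp (IsNilpotent.eq_zero (nilpotent_iff_mem_prime.mpr fun P hP => ?_))
  rw [← Ideal.Quotient.eq_zero_iff_mem, map_sub, sub_eq_zero]
  have h1' := congrArg (Ideal.Quotient.mk P) h1
  have h2' := congrArg (Ideal.Quotient.mk P) h2
  simp only [map_mul, map_pow, map_natCast] at h1' h2'
  by_cases hpK : (p : A ⧸ P) = 0
  · haveI := Fact.mk hp
    haveI : CharP (A ⧸ P) p := (CharP.charP_iff_prime_eq_zero hp).mpr hpK
    exact frobenius_inj (A ⧸ P) p h2'
  · exact mul_left_cancel₀ hpK h1'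

theorem isAWNRing_of_ringEquiv (e : A ≃+* B) (h : HTop.IsAWNRing A) : HTop.IsAWNRing B := by
  refine ⟨fun x y hxy => ?_, fun p hp x y hxy => ?_⟩
  · obtain ⟨a, ⟨h1, h2⟩, hu⟩ := h.1 (e.symm x) (e.symm y) (by rw [← map_pow, hxy, map_pow])
    refine ⟨e a, ⟨?_, ?_⟩, fun b hb => ?_⟩
    · rw [← map_pow, ← h1, e.apply_symm_apply]
    · rw [← map_pow, ← h2, e.apply_symm_apply]
    · rw [← hu (e.symm b) ⟨by rw [hb.1, map_pow], by rw [hb.2, map_pow]⟩, e.apply_symm_apply]
  · obtain ⟨a, ⟨h1, h2⟩, hu⟩ := h.2 p hp (e.symm x) (e.symm y) (by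
      rw [← map_pow, ← map_natCast e.symm, ← map_pow, ← map_mul, hxy])
    refine ⟨e a, ⟨?_, ?_⟩, fun b hb => ?_⟩
    · rw [← map_pow, ← h1, e.apply_symm_apply]
    · rw [← map_natCast e, ← map_mul, ← h2, e.apply_symm_apply]
    · rw [← hu (e.symm b) ⟨by rw [hb.1, map_pow], by rw [hb.2, map_mul, map_natCast]⟩,
        e.apply_symm_apply]

theorem UH.of_comp {C : Type u} [CommRing C] {ψ : A →+* B} {χ : B →+* C} (h1 : UH ψ)
    (h2 : UH (χ.comp ψ)) : UH χ := by
  letI := ψ.toAlgebra
  letI := χ.toAlgebra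
  letI : Algebra A C := (χ.comp ψ).toAlgebra
  haveI : IsScalarTower A B C := .of_algebraMap_eq' rfl
  obtain ⟨-, -, -⟩ := (uh_iff (A := A) (B := B)).mp h1
  obtain ⟨hi, hn, hs⟩ := (uh_iff (A := A) (B := C)).mp h2
  haveI := hi
  refine (uh_iff (A := B) (B := C)).mpr ⟨Algebra.IsIntegral.tower_top A, fun s => ?_, fun q => ?_⟩
  · let μ : C ⊗[A] C →ₐ[A] C ⊗[B] C :=
      Algebra.TensorProduct.lift
        ((Algebra.TensorProduct.includeLeft : C →ₐ[B] C ⊗[B] C).restrictScalars A)
        ((Algebra.TensorProduct.includeRight : C →ₐ[B] C ⊗[B] C).restrictScalars A)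
        (fun _ _ => Commute.all _ _)
    have := (hn s).map μ
    simpa [μ] using this
  · obtain ⟨r, hr⟩ := hs (PrimeSpectrum.comap ψ q)
    refine ⟨r, (EtaPtLib.isIntegral_of_isUnivHomeo ψ h1).2.1 ?_⟩
    rw [← hr]
    rfl

theorem uh_of_bijective (χ : A →+* B) (h : Function.Bijective χ) : UH χ := by
  haveI : IsIso (CommRingCat.ofHom χ) := (RingEquiv.ofBijective χ h).toCommRingCatIso.isIso_hom
  exact isUnivHomeo_of_isIso _

theorem bijective_of_uh {ψ : A →+* B} (hA : HTop.IsAWNRing A) (hψ : UH ψ)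
    [_root_.IsReduced B] : Function.Bijective ψ := by
  haveI := isReduced_of_isSeminormalRing hA.1
  letI := ψ.toAlgebra
  have hinj : Function.Injective ψ := by
    rw [injective_iff_map_eq_zero]
    intro a ha
    refine IsNilpotent.eq_zero (nilpotent_iff_mem_prime.mpr fun P hP => ?_)
    obtain ⟨Q, hQ⟩ := (EtaPtLib.isIntegral_of_isUnivHomeo ψ hψ).2.2 ⟨P, hP⟩
    have : a ∈ (PrimeSpectrum.comap ψ Q).asIdeal := by
      show ψ a ∈ Q.asIdeal
      rw [ha]; exact zero_mem _
    rwa [hQ] at this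
  refine ⟨hinj, fun b => ?_⟩
  obtain ⟨l, hbl, hl⟩ := Tower.towers_of_isUnivHomeo (A := A) (B := B) hψ {b}
  refine hl.gen_le Tower.sqCubeOrPrime_mono (⊥ : Subalgebra A B) (fun c hc => ?_) (hbl (by simp))
  rcases hc with ⟨⟨x, hx⟩, ⟨y, hy⟩⟩ | ⟨p, hp, ⟨y, hy⟩, ⟨x, hx⟩⟩
  · change ψ x = _ at hx
    change ψ y = _ at hy
    obtain ⟨a, ⟨h1, h2⟩, -⟩ := hA.1 x y (hinj (by rw [map_pow, map_pow, hx, hy]; ring))
    refine ⟨a, eq_of_sq_eq_of_cube_eq ?_ ?_⟩
    · rw [← hx, h1, map_pow]; rfl
    · rw [← hy, h2, map_pow]; rfl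
  · change ψ x = _ at hx
    change ψ y = _ at hy
    obtain ⟨a, ⟨h1, h2⟩, -⟩ := hA.2 p hp x y (hinj (by
      rw [map_mul, map_pow, map_pow, map_natCast, hx, hy, mul_pow]))
    refine ⟨a, eq_of_mul_eq_of_pow_eq hp ?_ ?_⟩
    · rw [← hy, h2, map_mul, map_natCast]; rfl
    · rw [← hx, h1, map_pow]; rfl

end basic

section awn

variable (A : Type u) [CommRing A]

theorem good_of_uh (E : Subalgebra A (GeomProd A)) (h : UH (algebraMap A E)) : Good A E :=
  ⟨((uh_iff (A := A) (B := E)).mp h).1, ((uh_iff (A := A) (B := E)).mp h).2.1⟩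

theorem uh_adjoin_singleton {R T : Type u} [CommRing R] [CommRing T] [Algebra R T]
    (hinj : Function.Injective (algebraMap R T)) (a : T)
    (h : Tower.SqCubeOrPrime (A := R) a (⊥ : Subalgebra R T)) :
    UH (algebraMap R (Algebra.adjoin R ({a} : Set T))) := by
  let E := Algebra.adjoin R ({a} : Set T)
  let aE : E := ⟨a, Algebra.subset_adjoin rfl⟩
  refine Tower.isUnivHomeo_of_towers (st := Tower.SqCubeOrPrime)
    (fun x y hxy => hinj (congrArg Subtype.val hxy)) Tower.sqCubeOrPrime_mono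
    (fun _ => ⟨[aE], fun z _ => ?_, fun i hi => ?_⟩) (fun b S hb => ?_)
    (fun K _ g g' b S hS hb => Tower.eq_of_eq_on_sqCubeOrPrime g g' hS hb)
  · have hz : ∀ w (hw : w ∈ E), (⟨w, hw⟩ : E) ∈ Tower.gen R [aE] := by
      intro w hw
      induction hw using Algebra.adjoin_induction with
      | mem x hx => obtain rfl := Set.mem_singleton_iff.mp hx; exact Algebra.subset_adjoin (by simp [aE])
      | algebraMap r => exact Subalgebra.algebraMap_mem _ r
      | add x y hx hy ihx ihy => exact Subalgebra.add_mem _ ihx ihy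
      | mul x y hx hy ihx ihy => exact Subalgebra.mul_mem _ ihx ihy
    exact hz z.1 z.2
  · simp only [List.length_singleton, Nat.lt_one_iff] at hi
    subst hi
    rcases h with ⟨⟨x, hx⟩, ⟨y, hy⟩⟩ | ⟨p, hp, ⟨y, hy⟩, ⟨x, hx⟩⟩
    · have e2 : algebraMap R E x = aE ^ 2 := Subtype.ext hx
      have e3 : algebraMap R E y = aE ^ 3 := Subtype.ext hy
      exact Or.inl ⟨e2 ▸ Subalgebra.algebraMap_mem _ x, e3 ▸ Subalgebra.algebraMap_mem _ y⟩
    · have e1 : algebraMap R E y = (p : E) * aE := Subtype.ext (hy.trans (by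
        show (p : T) * a = ((p : E) : T) * a
        simp))
      have e2 : algebraMap R E x = aE ^ p := Subtype.ext hx
      exact Or.inr ⟨p, hp, e1 ▸ Subalgebra.algebraMap_mem _ y, e2 ▸ Subalgebra.algebraMap_mem _ x⟩
  · rcases hb with hb | ⟨p, hp, -, hb⟩
    · exact ⟨2, two_pos, hb.1⟩
    · exact ⟨p, hp.pos, hb⟩

set_option synthInstance.maxHeartbeats 80000 in
theorem mem_awn_of_sqCubeOrPrime {a : GeomProd A} (h : Tower.SqCubeOrPrime (A := A) a (awn A)) :
    a ∈ awn A := by
  have h' : Tower.SqCubeOrPrime (A := awn A) a (⊥ : Subalgebra (awn A) (GeomProd A)) := by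
    rcases h with ⟨h2, h3⟩ | ⟨p, hp, h1, h2⟩
    · exact Or.inl ⟨⟨⟨_, h2⟩, rfl⟩, ⟨⟨_, h3⟩, rfl⟩⟩
    · exact Or.inr ⟨p, hp, ⟨⟨_, h1⟩, rfl⟩, ⟨⟨_, h2⟩, rfl⟩⟩
  have hE := uh_adjoin_singleton (R := awn A) (T := GeomProd A) Subtype.val_injective a h'
  have hg : (Algebra.adjoin (awn A) ({a} : Set (GeomProd A))).restrictScalars A ∈ {S | Good A S} :=
    good_of_uh A _ (UH.comp (uh_awn A) hE)
  exact le_sSup hg (Algebra.subset_adjoin rfl : a ∈ Algebra.adjoin (awn A) ({a} : Set (GeomProd A)))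

theorem isAWNRing_awn : HTop.IsAWNRing (awn A) := by
  classical
  refine ⟨fun x y hxy => ?_, fun p hp x y hxy => ?_⟩
  · have hxy' : (x : GeomProd A) ^ 3 = (y : GeomProd A) ^ 2 := congrArg Subtype.val hxy
    let a : GeomProd A := fun q => (y : GeomProd A) q / (x : GeomProd A) q
    have hq : ∀ q, (x : GeomProd A) q = a q ^ 2 ∧ (y : GeomProd A) q = a q ^ 3 := fun q => by
      have h := congrFun hxy' q
      simp only [Pi.pow_apply] at h
      by_cases hx : (x : GeomProd A) q = 0
      · rw [hx, zero_pow three_ne_zero] at h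
        have hy : (y : GeomProd A) q = 0 := (pow_eq_zero_iff two_ne_zero).mp h.symm
        simp [a, hx, hy]
      · constructor
        · simp only [a]; field_simp; linear_combination h
        · simp only [a]; field_simp; linear_combination (y : GeomProd A) q * h
    have h2 : a ^ 2 = x := funext fun q => (hq q).1.symm
    have h3 : a ^ 3 = y := funext fun q => (hq q).2.symm
    refine ⟨⟨a, mem_awn_of_sqCubeOrPrime A (Or.inl ⟨h2 ▸ x.2, h3 ▸ y.2⟩)⟩,
      ⟨Subtype.ext h2.symm, Subtype.ext h3.symm⟩, fun b hb => ?_⟩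
    exact eq_of_sq_eq_of_cube_eq (hb.1.symm.trans (Subtype.ext h2.symm))
      (hb.2.symm.trans (Subtype.ext h3.symm))
  · have hex : ∀ q, ∃ a, (x : GeomProd A) q = a ^ p ∧ (y : GeomProd A) q = (p : _) * a := fun q => by
      have h : ((p : GeomProd A) ^ p * (x : GeomProd A)) q = ((y : GeomProd A) ^ p) q := by
        refine congrFun ?_ q
        have := congrArg Subtype.val hxy
        simpa using this
      simp only [Pi.mul_apply, Pi.pow_apply, Pi.natCast_apply] at h
      by_cases hp0 : (p : AlgebraicClosure q.asIdeal.ResidueField) = 0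
      · obtain ⟨a, ha⟩ := IsAlgClosed.exists_pow_nat_eq ((x : GeomProd A) q) hp.pos
        refine ⟨a, ha.symm, ?_⟩
        rw [hp0, zero_pow hp.pos.ne', zero_mul] at h
        rw [hp0, zero_mul, (pow_eq_zero_iff hp.pos.ne').mp h.symm]
      · refine ⟨(y : GeomProd A) q / p, ?_, by field_simp⟩
        rw [div_pow, eq_div_iff (pow_ne_zero _ hp0)]
        linear_combination h
    choose a ha using hex
    have h2 : (a : GeomProd A) ^ p = x := funext fun q => (ha q).1.symm
    have h1 : (p : GeomProd A) * a = y := funext fun q => (ha q).2.symm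
    refine ⟨⟨a, mem_awn_of_sqCubeOrPrime A (Or.inr ⟨p, hp, h1 ▸ y.2, h2 ▸ x.2⟩)⟩,
      ⟨Subtype.ext h2.symm, Subtype.ext (by simpa using h1.symm)⟩, fun b hb => ?_⟩
    refine eq_of_mul_eq_of_pow_eq hp ?_ (hb.1.symm.trans (Subtype.ext h2.symm))
    exact hb.2.symm.trans (Subtype.ext (by simpa using h1.symm))

variable {A}

theorem exists_equiv_awn {W : Type u} [CommRing W] {φ : A →+* W} (hφ : HTop.IsRingAWN φ) :
    ∃ e : W ≃+* awn A, e.toRingHom.comp φ = algebraMap A (awn A) := by
  obtain ⟨f, hf, -⟩ := (isRingAWN_awn A).2 W φ hφ.1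
  obtain ⟨g, hg, -⟩ := hφ.2 _ (algebraMap A (awn A)) (uh_awn A)
  have hgf : g.comp f = RingHom.id W := by
    obtain ⟨χ, -, hu⟩ := hφ.2 W φ hφ.1
    rw [hu (g.comp f) (by show (g.comp f).comp φ = φ; rw [RingHom.comp_assoc, hf, hg]), hu (RingHom.id W) (RingHom.id_comp φ)]
  have hfg : f.comp g = RingHom.id (awn A) :=
    (uh_awn A).hom_ext (by rw [RingHom.comp_assoc, hg, hf, RingHom.id_comp])
  exact ⟨RingEquiv.ofRingHom f g hfg hgf, hf⟩

theorem isAWNRing_of_isRingAWN {W : Type u} [CommRing W] {φ : A →+* W} (hφ : HTop.IsRingAWN φ) :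
    HTop.IsAWNRing W :=
  (exists_equiv_awn hφ).elim fun e _ => isAWNRing_of_ringEquiv e.symm (isAWNRing_awn A)

theorem isAWNRing_iff_bijective :
    HTop.IsAWNRing A ↔ Function.Bijective (algebraMap A (awn A)) :=
  ⟨fun h => bijective_of_uh h (uh_awn A),
    fun h => isAWNRing_of_ringEquiv (RingEquiv.ofBijective _ h).symm (isAWNRing_awn A)⟩

theorem comparison_bijective_iff {B W : Type u} [CommRing B] [CommRing W] {φ : A →+* W}
    (hφ : HTop.IsRingAWN φ) {ψ : A →+* B} (hψ : UH ψ) {χ : B →+* W} (hχ : χ.comp ψ = φ) :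
    Function.Bijective χ ↔ HTop.IsAWNRing B := by
  refine ⟨fun h => isAWNRing_of_ringEquiv (RingEquiv.ofBijective χ h).symm (isAWNRing_of_isRingAWN hφ),
    fun h => ?_⟩
  haveI := isReduced_of_isSeminormalRing (isAWNRing_of_isRingAWN hφ).1
  exact bijective_of_uh h (hψ.of_comp (hχ ▸ hφ.1))

theorem isAWNRing_away (h : HTop.IsAWNRing A) (f : A) :
    HTop.IsAWNRing (Localization.Away f) := by
  let A' := Localization.Away f
  haveI := isLocalization_awnMap (A := A) (A' := A') f
  rw [isAWNRing_iff_bijective] at h ⊢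
  refine ⟨fun x y hxy => ?_, fun w => ?_⟩
  · obtain ⟨n, a, ha⟩ := IsLocalization.Away.surj f x
    obtain ⟨m, b, hb⟩ := IsLocalization.Away.surj f y
    have hu : IsUnit (algebraMap A A' f) := IsLocalization.Away.algebraMap_isUnit f
    suffices algebraMap A A' (a * f ^ m) = algebraMap A A' (b * f ^ n) by
      rw [map_mul, map_mul, ← ha, ← hb, map_pow, map_pow] at this
      exact ((hu.pow n).mul (hu.pow m)).mul_left_inj.mp (by linear_combination this)
    have e : algebraMap A' (awn A') (algebraMap A A' (a * f ^ m)) =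
        algebraMap A' (awn A') (algebraMap A A' (b * f ^ n)) := by
      rw [map_mul (algebraMap A A'), map_mul (algebraMap A A'), ← ha, ← hb]
      change algebraMap A' (awn A') x = algebraMap A' (awn A') y at hxy
      simp only [map_mul, map_pow]
      rw [show algebraMap (Localization.Away f) (awn A') = algebraMap A' (awn A') from rfl, hxy]
      ring
    letI := (awnMap (algebraMap A A')).toAlgebra
    haveI := isLocalization_awnMap (A := A) (A' := A') f
    have e' : algebraMap (awn A) (awn A') (algebraMap A (awn A) (a * f ^ m)) =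
        algebraMap (awn A) (awn A') (algebraMap A (awn A) (b * f ^ n)) := by
      show awnMap _ _ = awnMap _ _
      exact (RingHom.congr_fun (awnMap_comp_algebraMap (algebraMap A A')) _).trans
        (e.trans (RingHom.congr_fun (awnMap_comp_algebraMap (algebraMap A A')) _).symm)
    obtain ⟨⟨_, k, rfl⟩, hk⟩ :=
      IsLocalization.exists_of_eq (M := Submonoid.powers (algebraMap A (awn A) f)) e'
    have : f ^ k * (a * f ^ m) = f ^ k * (b * f ^ n) := h.1 (by simpa using hk)
    have := congrArg (algebraMap A A') this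
    rw [map_mul, map_mul (algebraMap A A') (f ^ k), map_pow] at this
    exact (hu.pow k).mul_right_inj.mp this
  · letI := (awnMap (algebraMap A A')).toAlgebra
    haveI := isLocalization_awnMap (A := A) (A' := A') f
    obtain ⟨n, v, hv⟩ := IsLocalization.Away.surj (algebraMap A (awn A) f) w
    obtain ⟨a, rfl⟩ := h.2 v
    have hu : IsUnit (algebraMap A A' f) := IsLocalization.Away.algebraMap_isUnit f
    refine ⟨algebraMap A A' a * ↑((hu.pow n).unit⁻¹), ?_⟩
    have hh : ∀ z, algebraMap (awn A) (awn A') (algebraMap A (awn A) z) =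
        algebraMap A' (awn A') (algebraMap A A' z) :=
      RingHom.congr_fun (awnMap_comp_algebraMap (algebraMap A A'))
    rw [hh, hh] at hv
    rw [map_mul, ← hv, ← map_pow, mul_assoc, ← map_mul]
    simp [IsUnit.mul_val_inv]

end awn

end Groth.Agent.WeakNorm
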